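import Mathlib
import Cfsg.Agent.Char.ThreeDeg
import Cfsg.Agent.Char.RelGraph
import Cfsg.Agent.Solv.Coprime

/-! Tools for relative degree sets: extensions of linear characters, induced characters. -/

set_option autoImplicit false
set_option linter.unusedSectionVars false
set_option linter.style.haveILetI false

open Cfsg Cfsg.Agent.Char Subgroup
open scoped commutatorElement

namespace Cfsg.Agent.Deg4

variable {G : Type*} [Group G] [Finite G]

/-- Extension of an invariant linear character over a "complement". -/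
theorem exists_ext (E U T : Subgroup G) [hE : E.Normal] (l : E →* ℂˣ)
    (hU : ∀ x : E, (x : G) ∈ U → l x = 1) (hT : ∀ t ∈ T, ∃ e ∈ E, ∃ u ∈ U, t = e * u)
    (hinv : T ≤ inertia E fun x => (l x : ℂ)) :
    ∃ m : T →* ℂˣ, ∀ (x : E) (h : (x : G) ∈ T), m ⟨x, h⟩ = l x := by
  choose e he u hu hT using hT
  have key : ∀ (t : T) (a : E) (v : G), v ∈ U → (t : G) = a * v → l ⟨e t t.2, he t t.2⟩ = l a := by
    intro t a v hv h
    have h1 : ((a⁻¹ * ⟨e t t.2, he t t.2⟩ : E) : G) = v * (u t t.2)⁻¹ := by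
      have := h.symm.trans (hT t t.2)
      change (a : G)⁻¹ * e t t.2 = _
      rw [inv_mul_eq_iff_eq_mul, ← mul_assoc, this, mul_inv_cancel_right]
    have := hU _ (h1 ▸ U.mul_mem hv (U.inv_mem (hu t t.2)))
    rw [map_mul, map_inv, inv_mul_eq_one] at this
    exact this.symm
  refine ⟨MonoidHom.mk' (fun t => l ⟨e t t.2, he t t.2⟩) fun s t => ?_, fun x h => ?_⟩
  · have hi : u s s.2 ∈ inertia E fun x => (l x : ℂ) := by
      have : u s s.2 = (e s s.2)⁻¹ * s := by rw [eq_inv_mul_iff_mul_eq, ← hT]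
      rw [this]
      exact mul_mem (inv_mem (le_inertia E (isCharacter_hom l).isClassFunction (he s s.2)))
        (hinv s.2)
    have h2 := (mem_inertia' E).1 hi ⟨e t t.2, he t t.2⟩
    rw [key (s * t) (⟨e s s.2, he s s.2⟩ * ⟨u s s.2 * e t t.2 * (u s s.2)⁻¹,
      hE.conj_mem _ (he t t.2) _⟩) (u s s.2 * u t t.2) (U.mul_mem (hu s s.2) (hu t t.2)) (by
        change (s : G) * t = e s s.2 * (u s s.2 * e t t.2 * (u s s.2)⁻¹) * (u s s.2 * u t t.2)
        conv_lhs => rw [hT s s.2, hT t t.2]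
        group), map_mul, Units.ext h2]
  · exact key ⟨x, h⟩ x 1 U.one_mem (mul_one _).symm

/-- Linear characters separate points of an abelian quotient. -/
theorem exists_hom_of_notMem (K : Subgroup G) (hK : commutator G ≤ K) {x : G} (hx : x ∉ K) :
    ∃ μ : G →* ℂˣ, (∀ y ∈ K, μ y = 1) ∧ μ x ≠ 1 := by
  haveI : K.Normal := ⟨fun n hn g => by
    have : g * n * g⁻¹ = ⁅g, n⁆ * n := by simp [commutatorElement_def]
    exact this ▸ K.mul_mem (hK (commutator_mem_commutator (mem_top _) (mem_top _))) hn⟩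
  letI : CommGroup (G ⧸ K) := { (inferInstance : Group (G ⧸ K)) with
    mul_comm := fun a b => by
      obtain ⟨a, rfl⟩ := QuotientGroup.mk_surjective a
      obtain ⟨b, rfl⟩ := QuotientGroup.mk_surjective b
      rw [← QuotientGroup.mk_mul, ← QuotientGroup.mk_mul, QuotientGroup.eq]
      have : (a * b)⁻¹ * (b * a) = ⁅b⁻¹, a⁻¹⁆ := by simp only [commutatorElement_def]; group
      rw [this]
      exact hK (commutator_mem_commutator (mem_top _) (mem_top _)) }
  obtain ⟨φ, hφ⟩ := CommGroup.exists_apply_ne_one_of_hasEnoughRootsOfUnity (G ⧸ K) ℂ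
    (a := (x : G ⧸ K)) (by rwa [Ne, QuotientGroup.eq_one_iff])
  refine ⟨φ.comp (QuotientGroup.mk' K), fun y hy => ?_, hφ⟩
  rw [MonoidHom.comp_apply, QuotientGroup.mk'_apply, (QuotientGroup.eq_one_iff y).2 hy, map_one]

/-- relative form -/
theorem exists_hom_sub (V K : Subgroup G) (hK : ⁅V, V⁆ ≤ K) {x : G} (hxV : x ∈ V) (hx : x ∉ K) :
    ∃ μ : V →* ℂˣ, (∀ y : V, (y : G) ∈ K → μ y = 1) ∧ μ ⟨x, hxV⟩ ≠ 1 :=
  exists_hom_of_notMem (K.subgroupOf V) (by
    rw [subgroupOf, ← map_le_iff_le_comap, map_subtype_commutator]; exact hK) hx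

/-- A constituent of an induced linear character with small `q`-part. -/
theorem exists_irr_over_lin (X : Subgroup G) [Fintype X] (μ : X →* ℂˣ) {q : ℕ} (hq : q.Prime) :
    ∃ χ : IrrCharacter G, classInner (fun x : X => χ.1 x) (fun x => (μ x : ℂ)) ≠ 0 ∧
      ∀ k, q ^ k ∣ charDegree χ.1 → q ^ k ∣ X.index := by
  letI := Fintype.ofFinite G
  obtain ⟨a, b, hb, hab⟩ := Nat.exists_eq_pow_mul_and_not_dvd
    (index_ne_zero_of_finite (H := X)) q hq.ne_one
  obtain ⟨χ, h1, h2⟩ := exists_constituent_not_dvd (isCharacter_indFun X (isCharacter_hom μ))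
    (d := q ^ (a + 1)) (by
      rw [charDegree_eq_of_one_eq (n := X.index) (by rw [indFun_one]; simp), hab]
      exact fun h => hb (Nat.dvd_of_mul_dvd_mul_left (pow_pos hq.pos a) (pow_succ q a ▸ h)))
  rw [classInner_indFun_eq_restrict X (isIrrCharacter_hom μ).isGen χ.2.isGen] at h1
  refine ⟨χ, h1, fun k hk => hab ▸ Dvd.dvd.mul_right (pow_dvd_pow q ?_) b⟩
  by_contra h
  exact h2 ((pow_dvd_pow q (by omega)).trans hk)

/-- An irreducible character of degree at least `|G:T| γ(1)` over `γ` is induced; this forces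
every normal subgroup meeting `T` inside the kernel of `γ` into `T`. -/
theorem le_of_induced (T Y : Subgroup G) [hY : Y.Normal] [Fintype T] (β : IrrCharacter G)
    {γ : T → ℂ} (hγ : IsIrrCharacter T γ) (h : classInner (fun x : T => β.1 x) γ ≠ 0)
    (hd : T.index * charDegree γ ≤ charDegree β.1) (hk : Y.subgroupOf T ≤ charKer γ) :
    Y ≤ T := by
  classical
  letI := Fintype.ofFinite G
  have hφ := isCharacter_indFun T hγ.isCharacter
  rw [← classInner_indFun_eq_restrict T hγ.isGen β.2.isGen] at h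
  have e1 : charDegree (indFun T γ) = T.index * charDegree γ := charDegree_eq_of_one_eq (by
    rw [indFun_one, Nat.cast_mul, coe_charDegree_of_isCharacter hγ.isCharacter])
  have e : indFun T γ = β.1 := hφ.eq_of_inner_ne_zero_of_one_eq β.2 h (by
    rw [← coe_charDegree_of_isCharacter hφ, ← coe_charDegree_irr, Nat.cast_inj]
    have h2 := hφ.one_le_of_inner_ne_zero β.2 h
    rw [← coe_charDegree_of_isCharacter hφ, ← coe_charDegree_irr] at h2
    have h3 : charDegree β.1 ≤ charDegree (indFun T γ) := by simpa using h2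
    omega)
  let c : G → ℕ := fun y => (Finset.univ.filter fun x : G => x⁻¹ * y * x ∈ T).card
  have hc : ∀ y ∈ Y, β.1 y = (Nat.card T : ℂ)⁻¹ * (c y * γ 1) := by
    intro y hy
    rw [← e, indFun_apply]
    congr 1
    rw [← nsmul_eq_mul, ← Finset.sum_const, Finset.sum_filter]
    refine Finset.sum_congr rfl fun x _ => ?_
    split_ifs with hx
    · rw [extendByZero_of_mem T γ hx]
      exact (mem_charKer_iff hγ.isCharacter).1 (hk (mem_subgroupOf.2 (by simpa using hY.conj_mem y hy x⁻¹)))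
    · exact extendByZero_of_not_mem T γ hx
  have h0 : (Nat.card T : ℂ)⁻¹ ≠ 0 := inv_ne_zero (natCard_ne_zero_complex T)
  have hc1 : c 1 = Fintype.card G := by simp [c]
  have h1 : classInner (fun y : Y => β.1 y) (fun _ => 1) ≠ 0 := by
    simp only [classInner, map_one, mul_one]
    refine mul_ne_zero (inv_ne_zero (natCard_ne_zero_complex Y)) ?_
    rw [Finset.sum_congr rfl fun (y : Y) _ => hc y y.2, ← Finset.mul_sum, ← Finset.sum_mul,
      ← Nat.cast_sum]
    refine mul_ne_zero h0 (mul_ne_zero (Nat.cast_ne_zero.2 fun h => ?_) hγ.one_ne_zero)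
    have := Finset.sum_eq_zero_iff.1 h 1 (Finset.mem_univ _)
    rw [OneMemClass.coe_one, hc1] at this
    exact Fintype.card_ne_zero this
  intro y hy
  have h2 := restrict_eq_const_of_inner_one_ne_zero Y β.2 h1 ⟨y, hy⟩
  rw [hc y hy, hc 1 Y.one_mem, hc1] at h2
  have h3 : c y = Fintype.card G :=
    Nat.cast_injective (R := ℂ) (mul_right_cancel₀ hγ.one_ne_zero (mul_left_cancel₀ h0 h2))
  have h4 := (Finset.card_eq_iff_eq_univ _).1 h3
  have : (1 : G) ∈ Finset.univ.filter fun x : G => x⁻¹ * y * x ∈ T := by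
    rw [h4]; exact Finset.mem_univ _
  simpa using this

/-- If the normal `p`-subgroup `B` is not inside `A`, some character over `B` has `p`-part smaller
than that of `|G:A|`. -/
theorem exists_small_of_not_le {p : ℕ} [hp : Fact p.Prime] (B A : Subgroup G) [B.Normal]
    (hB : IsPGroup p B) (h : ¬ B ≤ A) : ∃ χ : IrrCharacter G, ¬ B ≤ charKer χ.1 ∧
      ∃ k, p ^ k ∣ A.index ∧ ¬ p ^ k ∣ charDegree χ.1 := by
  classical
  letI := Fintype.ofFinite G
  obtain ⟨S⟩ : Nonempty (Sylow p A) := inferInstance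
  set P := (S : Subgroup A).map A.subtype with hPdef
  have hP : IsPGroup p P := S.isPGroup'.map _
  set X := B ⊔ P
  have hX : IsPGroup p X := IsPGroup.to_sup_of_normal_left hB hP
  have hne : P.subgroupOf X ≠ ⊤ := fun e =>
    h ((le_sup_left.trans (subgroupOf_eq_top.1 e)).trans (map_subtype_le _))
  haveI := hX.isNilpotent
  obtain ⟨Q, hQ, hPQ⟩ := (eq_top_or_exists_le_coatom (P.subgroupOf X)).resolve_left hne
  haveI : Q.Normal := NormalizerCondition.normal_of_coatom Q Group.normalizerCondition_of_isNilpotent hQ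
  have hcQ : commutator X ≤ Q := by
    by_contra hc
    have h1 : Q ⊔ commutator X = ⊤ := hQ.2 _ (left_lt_sup.2 hc)
    haveI : Nontrivial (X ⧸ Q) := QuotientGroup.nontrivial_iff.2 hQ.1
    refine (Group.IsSolvable.commutator_lt_top_of_nontrivial (X ⧸ Q)).ne ?_
    have hs := QuotientGroup.mk'_surjective Q
    have := congrArg (map (QuotientGroup.mk' Q)) h1
    rwa [Subgroup.map_sup, QuotientGroup.map_mk'_self, bot_sup_eq, map_top_of_surjective _ hs,
      map_commutator_eq, MonoidHom.range_eq_top.2 hs] at this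
  obtain ⟨x, hx⟩ : ∃ x : X, (x : G) ∈ B ∧ x ∉ Q := by
    by_contra hc
    push Not at hc
    refine hQ.1 (eq_top_iff.2 fun y _ => ?_)
    have : X ≤ Q.map X.subtype := sup_le (fun b hb => ⟨⟨b, mem_sup_left hb⟩, hc _ hb, rfl⟩)
      fun b hb => ⟨⟨b, mem_sup_right hb⟩, hPQ hb, rfl⟩
    obtain ⟨z, hz, e⟩ := this y.2
    exact (Subtype.ext e : z = y) ▸ hz
  obtain ⟨μ, -, hμ⟩ := exists_hom_of_notMem Q hcQ hx.2
  obtain ⟨χ, h1, h2⟩ := exists_irr_over_lin X μ hp.out
  obtain ⟨a, b, hb, hab⟩ := Nat.exists_eq_pow_mul_and_not_dvd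
    (index_ne_zero_of_finite (H := X)) p hp.out.ne_one
  refine ⟨χ, fun hk => hμ ?_, a + 1, ?_, fun hk => ?_⟩
  · have := (mem_charKer_iff (isCharacter_hom μ)).1
      (le_charKer_restrict B χ.2.isCharacter (isIrrCharacter_hom μ) h1 hk (x := x) hx.1)
    simpa using this
  · have e1 : P.relIndex A * A.index = P.index := relIndex_mul_index (map_subtype_le _)
    have e2 : P.relIndex X * X.index = P.index := relIndex_mul_index le_sup_right
    have e3 : ¬ p ∣ P.relIndex A := by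
      rw [hPdef, relIndex, subgroupOf, comap_map_eq_self_of_injective A.subtype_injective]
      exact S.not_dvd_index
    obtain ⟨j, hj⟩ := hX.index (P.subgroupOf X)
    have hj0 : j ≠ 0 := fun e => hne (index_eq_one.1 (by rw [hj, e, pow_zero]))
    refine ((hp.out.coprime_iff_not_dvd.2 e3).pow_left _).dvd_of_dvd_mul_left ?_
    rw [e1, ← e2, hab, pow_succ', ← mul_assoc]
    exact (mul_dvd_mul_right ((dvd_pow_self p hj0).trans hj.symm.dvd : p ∣ P.relIndex X) _).mul_right _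
  · exact hb (Nat.dvd_of_mul_dvd_mul_left (pow_pos hp.out.pos a) (pow_succ p a ▸ hab ▸ h2 _ hk))

/-- the same modulo a normal subgroup -/
theorem exists_small_of_not_le' {p : ℕ} [hp : Fact p.Prime] (V N A : Subgroup G) [V.Normal]
    [N.Normal] (hB : IsPGroup p (N.map (QuotientGroup.mk' V))) (hVA : V ≤ A) (h : ¬ N ≤ A) :
    ∃ χ : IrrCharacter G, ¬ N ≤ charKer χ.1 ∧
      ∃ k, p ^ k ∣ A.index ∧ ¬ p ^ k ∣ charDegree χ.1 := by
  have hs := QuotientGroup.mk'_surjective V
  haveI := Normal.map ‹N.Normal› _ hs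
  have e : (A.map (QuotientGroup.mk' V)).comap (QuotientGroup.mk' V) = A := by
    rw [comap_map_eq, QuotientGroup.ker_mk', sup_eq_left.2 hVA]
  obtain ⟨χ, h1, k, h2, h3⟩ := exists_small_of_not_le _ (A.map (QuotientGroup.mk' V)) hB
    fun h1 => h (e ▸ map_le_iff_le_comap.1 h1)
  refine ⟨inflateIrr _ hs χ, by rwa [le_charKer_inflateIrr], k, ?_, by
    rwa [charDegree_inflateIrr]⟩
  rwa [← e, index_comap_of_surjective _ hs]

theorem not_le_charKer_of_over (E : Subgroup G) [Fintype E] (l : E →* ℂˣ) (hl : l ≠ 1)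
    (χ : IrrCharacter G) (h : classInner (fun x : E => χ.1 x) (fun x => (l x : ℂ)) ≠ 0) :
    ¬ E ≤ charKer χ.1 := fun hk => hl (MonoidHom.ext fun x => by
  have := (mem_charKer_iff (isCharacter_hom l)).1
    (le_charKer_restrict E χ.2.isCharacter (isIrrCharacter_hom l) h hk (x := x) x.2)
  simpa using this)

/-- Degrees over a linear character which extends to its inertia group. -/
theorem exists_deg_of_ext (E : Subgroup G) [E.Normal] (l : E →* ℂˣ) (hl : l ≠ 1)
    (T : Subgroup G) (hT : T = inertia E fun x => (l x : ℂ)) (m : T →* ℂˣ)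
    (hm : ∀ (x : E) (h : (x : G) ∈ T), m ⟨x, h⟩ = l x) {γ : T → ℂ} (hγ : IsIrrCharacter T γ)
    (hk : E.subgroupOf T ≤ charKer γ) :
    ∃ χ : IrrCharacter G, ¬ E ≤ charKer χ.1 ∧ charDegree χ.1 = T.index * charDegree γ := by
  classical
  letI := Fintype.ofFinite G
  have hET : E ≤ T := hT ▸ le_inertia E (isCharacter_hom l).isClassFunction
  have h1 := hγ.mul_linear m
  have h2 : classInner (fun n : E => γ ⟨n, hET n.2⟩ * m ⟨n, hET n.2⟩) (fun x => (l x : ℂ)) ≠ 0 := by
    have : (fun n : E => γ ⟨n, hET n.2⟩ * m ⟨n, hET n.2⟩) = γ 1 • fun x => (l x : ℂ) :=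
      funext fun n => by
        rw [hm, (mem_charKer_iff hγ.isCharacter).1 (hk (by exact n.2))]; rfl
    rw [this, classInner_smul_left, (isIrrCharacter_hom l).inner_self, mul_one]
    exact hγ.one_ne_zero
  refine ⟨⟨_, isIrr_indFun_of_inertia_le hET h1 (isIrrCharacter_hom l) hT.ge h2⟩,
    not_le_charKer_of_over E l hl _ ?_, charDegree_eq_of_one_eq ?_⟩
  · exact (classInner_restrict_indFun_of_inertia_le hET h1 (isIrrCharacter_hom l) hT.ge
      h2).trans_ne h2
  · refine (indFun_one _ _).trans ?_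
    rw [Nat.cast_mul, coe_charDegree_of_isCharacter hγ.isCharacter]
    simp

/-- characters non-linear on a normal `r`-subgroup have degree divisible by `r` -/
theorem dvd_of_not_le {r : ℕ} [hr : Fact r.Prime] (V : Subgroup G) [V.Normal] (hV : IsPGroup r V)
    (χ : IrrCharacter G) (h : ¬ ⁅V, V⁆ ≤ charKer χ.1) : r ∣ charDegree χ.1 := by
  obtain ⟨θ, ⟨e, he, -⟩, h1, -⟩ := exists_under V χ
  obtain ⟨k, hk⟩ := hV.exists_card_eq
  obtain ⟨j, -, hj⟩ := (Nat.dvd_prime_pow hr.out).1 (hk ▸ charDegree_irr_dvd_card θ)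
  refine he ▸ Dvd.dvd.mul_left (hj ▸ dvd_pow_self r fun h0 => h (h1.1 ?_)) e
  rw [hj, h0, pow_zero]

theorem mem_inertia_hom (V : Subgroup G) [hV : V.Normal] (l : V →* ℂˣ) {g : G} :
    g ∈ inertia V (fun x => (l x : ℂ)) ↔
      ∀ (x : G) (_ : x ∈ V) (h : ⁅g, x⁆ ∈ V), l ⟨⁅g, x⁆, h⟩ = 1 := by
  rw [mem_inertia']
  constructor
  · intro h x hx h1
    have h2 : (⟨⁅g, x⁆, h1⟩ : V) = ⟨g * x * g⁻¹, hV.conj_mem x hx g⟩ * (⟨x, hx⟩ : V)⁻¹ := rfl
    rw [h2, map_mul, map_inv, Units.ext (h ⟨x, hx⟩), mul_inv_cancel]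
  · intro h x
    have h1 : ⁅g, (x : G)⁆ ∈ V := V.mul_mem (hV.conj_mem _ x.2 g) (V.inv_mem x.2)
    have h2 : (⟨g * x * g⁻¹, hV.conj_mem x x.2 g⟩ : V) = ⟨⁅g, (x : G)⁆, h1⟩ * x :=
      Subtype.ext (by simp [commutatorElement_def])
    rw [h2, map_mul, h _ x.2, one_mul]

theorem le_inertia_hom (V C : Subgroup G) [hV : V.Normal] (l : V →* ℂˣ) :
    C ≤ inertia V (fun x => (l x : ℂ)) ↔ ⁅V, C⁆ ≤ l.ker.map V.subtype := by
  rw [commutator_comm, commutator_le]
  refine forall₂_congr fun g _ => ?_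
  rw [mem_inertia_hom]
  refine forall₂_congr fun x hx => ⟨fun h => ?_, ?_⟩
  · have h1 : ⁅g, x⁆ ∈ V := V.mul_mem (hV.conj_mem _ hx g) (V.inv_mem hx)
    exact ⟨⟨_, h1⟩, h h1, rfl⟩
  · rintro ⟨y, hy, e⟩ h1
    exact (Subtype.ext e : y = ⟨_, h1⟩) ▸ hy

theorem apply_eq_one_of_mem {V : Subgroup G} {l : V →* ℂˣ} {x : V}
    (h : (x : G) ∈ l.ker.map V.subtype) : l x = 1 := by
  obtain ⟨y, hy, e⟩ := h
  exact (Subtype.ext e : y = x) ▸ hy

/-- A coprime abelian faithful action on an abelian group has a regular orbit on characters. -/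
theorem exists_regular (V B : Subgroup G) [hV : V.Normal] (hc : ⁅V, V⁆ = ⊥)
    (hB : ∀ a ∈ B, ∀ b ∈ B, a * b = b * a) (hcop : (Nat.card B).Coprime (Nat.card V))
    (hf : B ⊓ centralizer (V : Set G) = ⊥) :
    ∃ l : V →* ℂˣ, B ⊓ inertia V (fun x => (l x : ℂ)) = ⊥ := by
  obtain ⟨C, ⟨l, rfl⟩, hmin⟩ := (wellFounded_lt (α := Subgroup G)).has_min
    (Set.range fun l : V →* ℂˣ => B ⊓ inertia V (fun x => (l x : ℂ))) ⟨_, 1, rfl⟩
  refine ⟨l, by_contra fun hne => ?_⟩
  set C := B ⊓ inertia V (fun x => (l x : ℂ)) with hC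
  have hVs : Group.IsSolvable V := by
    refine ⟨1, ?_⟩
    rw [derivedSeries_one, ← map_eq_bot_iff_of_injective _ V.subtype_injective,
      map_subtype_commutator, hc]
  have hdec := fun v hv => Solv.coprime_exists_centralizer_mul_commutator C V
    le_normalizer_of_normal (hcop.coprime_dvd_left (card_dvd_of_le inf_le_left)) (Or.inr hVs) v hv
  obtain ⟨x, hxV, hx⟩ : ∃ x ∈ V, x ∉ centralizer (C : Set G) := by
    by_contra h
    push Not at h
    refine hne (eq_bot_iff.2 (hf ▸ le_inf inf_le_left fun c hc v hv => ?_))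
    exact (h v hv c hc).symm
  obtain ⟨l', h1, h2⟩ := exists_hom_sub V (centralizer (C : Set G)) (hc ▸ bot_le) hxV hx
  have hl : ⁅V, C⁆ ≤ l.ker.map V.subtype := (le_inertia_hom V C l).1 inf_le_right
  have hle : B ⊓ inertia V (fun x => ((l * l') x : ℂ)) ≤ C := by
    rintro b ⟨hb, hb'⟩
    refine ⟨hb, (mem_inertia' V).2 fun v => ?_⟩
    obtain ⟨c, hc, d, hd, e⟩ := hdec v v.2
    have hbC : b ∈ normalizer (C : Set G) := by
      rw [mem_normalizer_iff]
      intro y
      constructor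
      · intro hy
        rwa [hB b hb y hy.1, mul_inv_cancel_right]
      · intro hy
        have := hB b hb _ hy.1
        have e : y = b * y * b⁻¹ := by
          calc y = b⁻¹ * (b * (b * y * b⁻¹)) * b * b⁻¹ * b⁻¹ * b := by rw [this]; group
            _ = _ := by group
        rwa [e]
    have hd' : b * d * b⁻¹ ∈ ⁅V, C⁆ := (Solv.le_normalizer_commutator (B := zpowers b)
      le_normalizer_of_normal (zpowers_le.2 hbC) (mem_zpowers b) d).1 hd
    have hc' : b * c * b⁻¹ ∈ centralizer (C : Set G) :=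
      (Solv.le_normalizer_centralizer (B := zpowers b) (zpowers_le.2 hbC) (mem_zpowers b) c).1 hc.2
    have hdV : d ∈ V := commutator_le_left V C hd
    have e1 : v = ⟨c, hc.1⟩ * ⟨d, hdV⟩ := Subtype.ext e
    have e2 : (⟨b * v * b⁻¹, hV.conj_mem _ v.2 b⟩ : V) =
        ⟨b * c * b⁻¹, hV.conj_mem _ hc.1 b⟩ * ⟨b * d * b⁻¹, hV.conj_mem _ hdV b⟩ :=
      Subtype.ext (by
        change b * v * b⁻¹ = b * c * b⁻¹ * (b * d * b⁻¹)
        rw [e]; group)
    have h3 := Units.ext ((mem_inertia' V).1 hb' ⟨c, hc.1⟩)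
    rw [MonoidHom.mul_apply, MonoidHom.mul_apply, h1 _ hc', h1 _ hc.2, mul_one, mul_one] at h3
    rw [e2, map_mul, h3, apply_eq_one_of_mem (x := ⟨b * d * b⁻¹, _⟩) (hl hd')]
    conv_rhs => rw [e1, map_mul, apply_eq_one_of_mem (x := ⟨d, _⟩) (hl hd)]
  refine hmin _ ⟨l * l', rfl⟩ (lt_of_le_of_ne hle fun e => h2 ?_)
  have h4 := (le_inertia_hom V C (l * l')).1 (e.ge.trans inf_le_right)
  obtain ⟨c, hc, d, hd, e⟩ := hdec x hxV
  have hdV : d ∈ V := commutator_le_left V C hd
  have e1 : (⟨x, hxV⟩ : V) = ⟨c, hc.1⟩ * ⟨d, hdV⟩ := Subtype.ext e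
  have h5 := apply_eq_one_of_mem (x := ⟨d, hdV⟩) (h4 hd)
  rw [MonoidHom.mul_apply, apply_eq_one_of_mem (hl hd), one_mul] at h5
  rw [e1, map_mul, h1 _ hc.2, h5, mul_one]

end Cfsg.Agent.Deg4
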