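import Mathlib
import Cfsg.Agent.Deg4.Tools

/-! The minimal configuration of Isaacs-Knutson Theorem B. -/

set_option autoImplicit false
set_option linter.unusedSectionVars false
set_option linter.style.haveILetI false

open Cfsg Cfsg.Agent.Char Subgroup
open scoped commutatorElement

namespace Cfsg.Agent.Deg4

variable {G : Type*} [Group G] [Finite G]

theorem cop_of_pg {p r : ℕ} [Fact p.Prime] [Fact r.Prime] (h : p ≠ r) {A B : Subgroup G}
    (hA : IsPGroup p A) (hB : IsPGroup r B) : (Nat.card A).Coprime (Nat.card B) :=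
  IsPGroup.coprime_card_of_ne p r h A B hA hB

theorem mem_sup_iff {V B : Subgroup G} [V.Normal] {x : G} :
    x ∈ V ⊔ B ↔ ∃ v ∈ V, ∃ b ∈ B, x = v * b := by
  rw [← SetLike.mem_coe, normal_mul]
  exact ⟨fun ⟨v, hv, b, hb, e⟩ => ⟨v, hv, b, hb, e.symm⟩,
    fun ⟨v, hv, b, hb, e⟩ => ⟨v, hv, b, hb, e.symm⟩⟩

theorem eq_bot_of_le_comm (S X : Subgroup G) [hS : Group.IsNilpotent S] (hXS : X ≤ S)
    (h : X ≤ ⁅X, S⁆) : X = ⊥ := by
  have h3 : ∀ k, X ≤ ((⊤ : Subgroup S).lowerCentralSeries k).map S.subtype := by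
    intro k
    induction k with
    | zero => rwa [Subgroup.lowerCentralSeries_zero, ← MonoidHom.range_eq_map, range_subtype]
    | succ k ih =>
      rw [Subgroup.lowerCentralSeries_succ, map_commutator, ← MonoidHom.range_eq_map,
        range_subtype]
      exact h.trans (commutator_mono ih le_rfl)
  obtain ⟨k, hk⟩ := Subgroup.nilpotent_iff_lowerCentralSeries.1 hS
  exact eq_bot_iff.2 ((h3 k).trans (by rw [hk, Subgroup.map_bot]))

/-- `G = V N(B)` with `V = [V, B]` a normal `r`-subgroup and `B` an abelian `p`-group. -/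
structure Cfg (p r : ℕ) (V B N : Subgroup G) (m n : ℕ) : Prop where
  hp : p.Prime
  hr : r.Prime
  ne : p ≠ r
  nV : V.Normal
  nN : N.Normal
  VN : V ≤ N
  BN : B ≤ N
  pV : IsPGroup r V
  pB : IsPGroup p B
  cB : ∀ a ∈ B, ∀ b ∈ B, a * b = b * a
  B0 : B ≠ ⊥
  VB : ⁅V, B⁆ = V
  hU : ∀ g : G, ∃ e ∈ V, ∃ u ∈ normalizer (B : Set G), g = e * u
  cd : ∀ χ : IrrCharacter G, ¬ N ≤ charKer χ.1 → charDegree χ.1 = m ∨ charDegree χ.1 = n

namespace Cfg

variable {p r m n : ℕ} {V B N : Subgroup G} (h : Cfg p r V B N m n)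
include h

theorem symm : Cfg p r V B N n m := { h with cd := fun χ hχ => (h.cd χ hχ).symm }

theorem cop : (Nat.card B).Coprime (Nat.card V) :=
  haveI := Fact.mk h.hp
  haveI := Fact.mk h.hr
  cop_of_pg h.ne h.pB h.pV

theorem not_le [V.Normal] {l : V →* ℂˣ} (hl : l ≠ 1) : ¬ B ≤ inertia V fun x => (l x : ℂ) :=
  fun h1 => hl (MonoidHom.ext fun x => apply_eq_one_of_mem
    ((le_inertia_hom V B l).1 h1 (h.VB.symm ▸ x.2)))

theorem triv (l : V →* ℂˣ) (x : V) (hx : (x : G) ∈ normalizer (B : Set G)) : l x = 1 := by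
  classical
  haveI := h.nV
  letI := Fintype.ofFinite B
  let L : V →* ℂˣ := ∏ b : B, l.comp (MulAut.conjNormal (b : G)).toMonoidHom
  have hL : ∀ y, L y = ∏ b : B, l (MulAut.conjNormal (b : G) y) := fun y => by
    simp [L, MonoidHom.finsetProd_apply]
  have h1 : L = 1 := by
    by_contra h1
    refine h.not_le h1 fun c hc => (mem_inertia' V).2 fun y => ?_
    rw [hL, hL]
    congr 1
    refine Fintype.prod_equiv (Equiv.mulRight ⟨c, hc⟩) _ _ fun b => ?_
    congr 1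
    exact Subtype.ext (by simp [mul_assoc])
  have h2 : ∀ b : B, MulAut.conjNormal (b : G) x = x := by
    intro b
    have h3 : ⁅(b : G), (x : G)⁆ = 1 := Solv.eq_one_of_mem_of_coprime h.cop
      (by
        have : ⁅(b : G), (x : G)⁆ = b * (x * (b : G)⁻¹ * (x : G)⁻¹) := by
          simp [commutatorElement_def, mul_assoc]
        exact this ▸ B.mul_mem b.2 ((hx _).1 (B.inv_mem b.2)))
      (V.mul_mem (h.nV.conj_mem _ x.2 _) (V.inv_mem x.2))
    exact Subtype.ext (mul_inv_eq_one.1 h3)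
  have h3 := hL x
  rw [h1, Finset.prod_congr rfl fun b _ => congrArg l (h2 b), Finset.prod_const,
    Finset.card_univ, ← Nat.card_eq_fintype_card] at h3
  have h4 : l x ^ Nat.card V = 1 := by rw [← map_pow, pow_card_eq_one', map_one]
  have h5 := pow_gcd_eq_one.2 ⟨h3.symm, h4⟩
  rwa [h.cop, pow_one] at h5

theorem deg [V.Normal] {l : V →* ℂˣ} (hl : l ≠ 1) {T : Subgroup G}
    (hT : T = inertia V fun x => (l x : ℂ)) {γ : T → ℂ} (hγ : IsIrrCharacter T γ)
    (hk : V.subgroupOf T ≤ charKer γ) :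
    T.index * charDegree γ = m ∨ T.index * charDegree γ = n := by
  obtain ⟨μ, hμ⟩ := exists_ext V (normalizer (B : Set G)) T l (h.triv l) (fun t _ => h.hU t) hT.le
  obtain ⟨χ, h1, h2⟩ := exists_deg_of_ext V l hl T hT μ hμ hγ hk
  exact h2 ▸ h.cd χ fun h3 => h1 (h.VN.trans h3)

theorem normal_sup : (V ⊔ B).Normal := by
  haveI := h.nV
  refine normalizer_eq_top_iff.1 (eq_top_iff.2 fun g _ => ?_)
  obtain ⟨e, he, u, hu, rfl⟩ := h.hU g
  exact mul_mem (le_normalizer (mem_sup_left he))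
    (Solv.le_normalizer_sup le_normalizer_of_normal le_rfl hu)

theorem ab_case (hV : ⁅V, V⁆ = ⊥) (hf : B ⊓ centralizer (V : Set G) = ⊥) : ⁅N, N⁆ ≤ V := by
  classical
  letI := Fintype.ofFinite G
  haveI := h.nV
  haveI := h.nN
  haveI := h.normal_sup
  wlog hmn : m ≤ n generalizing m n
  · exact this h.symm (le_of_not_ge hmn)
  refine commutator_le_of_rel_one (n := m) V N fun β h1 h2 =>
    (h.cd β h2).resolve_right fun h3 => ?_
  obtain ⟨l, hl⟩ := exists_regular V B hV h.cB h.cop hf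
  have hl1 : l ≠ 1 := by
    rintro rfl
    refine h.B0 (eq_bot_iff.2 (hl ▸ le_inf le_rfl fun b _ => (mem_inertia' V).2 fun _ => rfl))
  set T := inertia V fun x => (l x : ℂ) with hT
  have hVT : V ≤ T := le_inertia V (isCharacter_hom l).isClassFunction
  obtain ⟨γ, hγ, h4⟩ := exists_irr_inner_restrict_ne_zero T β.2
  have hk := le_charKer_restrict V β.2.isCharacter hγ h4 h1
  have h5 := le_of_induced T (V ⊔ B) β hγ h4 (by
    rcases h.deg hl1 hT hγ hk with e | e <;> omega) (fun x hx => by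
      obtain ⟨v, hv, b, hb, e⟩ := mem_sup_iff.1 (mem_subgroupOf.1 hx)
      have : b ∈ B ⊓ T := ⟨hb, by
        have : b = v⁻¹ * x := by rw [e]; group
        exact this ▸ T.mul_mem (T.inv_mem (hVT hv)) x.2⟩
      rw [hl, mem_bot] at this
      rw [this, mul_one] at e
      exact hk (mem_subgroupOf.2 (e ▸ hv)))
  exact h.not_le hl1 (le_sup_right.trans h5)

section Nab

variable (hN : N = V ⊔ B) (hZ0 : ⁅V, V⁆ ≠ ⊥)
  (hZ : ∀ M : Subgroup G, M.Normal → M ≠ ⊥ → ⁅V, V⁆ ≤ M)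
include hN

theorem comm_le : ⁅N, N⁆ ≤ V := by
  haveI := h.nV
  rw [commutator_le]
  intro x hx y hy
  obtain ⟨v, hv, b, hb, rfl⟩ := mem_sup_iff.1 (hN ▸ hx)
  obtain ⟨w, hw, c, hc, rfl⟩ := mem_sup_iff.1 (hN ▸ hy)
  rw [← QuotientGroup.eq_one_iff, ← QuotientGroup.mk'_apply, map_commutatorElement, map_mul,
    map_mul, QuotientGroup.mk'_apply, QuotientGroup.mk'_apply, QuotientGroup.mk'_apply,
    QuotientGroup.mk'_apply, (QuotientGroup.eq_one_iff v).2 hv, (QuotientGroup.eq_one_iff w).2 hw,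
    one_mul, one_mul, commutatorElement_eq_one_iff_mul_comm, ← QuotientGroup.mk_mul,
    h.cB b hb c hc, QuotientGroup.mk_mul]

theorem pN [V.Normal] : IsPGroup p (N.map (QuotientGroup.mk' V)) := by
  rw [hN, Subgroup.map_sup, QuotientGroup.map_mk'_self, bot_sup_eq]
  exact h.pB.map _

theorem pLin (μ : N →* ℂˣ) (hμ : ∀ x : N, (x : G) ∈ V → μ x = 1) : RG.PLin p μ := by
  haveI := h.nV
  haveI := Fact.mk h.hp
  obtain ⟨k, hk⟩ := h.pB.exists_card_eq
  refine ⟨k, fun x => ?_⟩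
  obtain ⟨v, hv, b, hb, e⟩ := mem_sup_iff.1 (hN.le x.2)
  have e1 : x = ⟨v, h.VN hv⟩ * ⟨b, h.BN hb⟩ := Subtype.ext e
  have e2 : (⟨b, h.BN hb⟩ : N) ^ p ^ k = 1 := Subtype.ext (by
    rw [← hk]
    have := congrArg Subtype.val (pow_card_eq_one' (x := (⟨b, hb⟩ : B)))
    exact this)
  rw [e1, map_mul, hμ _ hv, one_mul, ← Units.val_pow_eq_pow_val, ← map_pow, e2, map_one,
    Units.val_one]

include hZ0 hZ

theorem not_both (h1 : r ∣ m) (h2 : r ∣ n) : False := by
  haveI := h.nV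
  haveI := h.nN
  haveI := Fact.mk h.hp
  haveI := Fact.mk h.hr
  obtain ⟨M, _, -, h3, h4⟩ := exists_normal_compl N (hasNormalPComplement_of_rel (p := r) N
    fun χ hχ => by
      rcases h.cd χ fun h3 => hχ ((commutator_le_left N N).trans h3) with e | e <;> rwa [e])
  have hM : M = ⊥ := by
    by_contra hM
    have h5 := (h.pV.to_le (commutator_le_left V V)).card_eq_or_dvd.resolve_left
      (mt card_eq_one.1 hZ0)
    exact h3 (h5.trans (card_dvd_of_le (hZ M inferInstance hM)))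
  subst hM
  have h5 : IsPGroup r N := h4.of_injective ((QuotientGroup.mk' ⊥).subgroupMap N) fun a b e =>
    Subtype.ext (QuotientGroup.quotientBot.symm.injective (congrArg Subtype.val e))
  refine h.B0 (eq_bot_iff.2 fun b hb => ?_)
  exact Solv.eq_one_of_mem_of_coprime (cop_of_pg h.ne h.pB h5) hb (h.BN hb)

theorem central : ⁅⁅V, V⁆, V⁆ = ⊥ := by
  haveI := h.nV
  haveI := Fact.mk h.hr
  by_contra h1
  have h2 := hZ _ inferInstance h1
  haveI := h.pV.isNilpotent
  exact hZ0 (eq_bot_of_le_comm V _ (commutator_le_left V V) h2)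

omit hN hZ in
theorem exists_fixed [V.Normal] : ∃ l : V →* ℂˣ, l ≠ 1 ∧
    ¬ r ∣ (inertia V fun x => (l x : ℂ)).index := by
  haveI := Fact.mk h.hr
  obtain ⟨S, hS⟩ := h.pV.exists_le_sylow
  have h0 : ¬ V ≤ ⁅V, (S : Subgroup G)⁆ := fun h1 => by
    haveI : Group.IsNilpotent (S : Subgroup G) := S.isPGroup'.isNilpotent
    have := eq_bot_of_le_comm (S : Subgroup G) V hS h1
    exact hZ0 (eq_bot_iff.2 ((commutator_le_left V V).trans this.le))
  obtain ⟨x, hxV, hx⟩ := SetLike.not_le_iff_exists.1 h0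
  obtain ⟨l, h1, h2⟩ := exists_hom_sub V _ (commutator_mono le_rfl hS) hxV hx
  have h3 : (S : Subgroup G) ≤ inertia V fun x => (l x : ℂ) := by
    refine (le_inertia_hom V _ l).2 fun y hy => ?_
    have hyV : y ∈ V := commutator_le_left V _ hy
    exact ⟨⟨y, hyV⟩, h1 _ hy, rfl⟩
  exact ⟨l, fun e => h2 (by rw [e]; rfl), fun h4 =>
    S.not_dvd_index (h4.trans (index_dvd_of_le h3))⟩

end Nab

end Cfg

end Cfsg.Agent.Deg4
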