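import Mathlib
import Cfsg.Agent.Deg4.RelA

/-! Isaacs-Knutson Theorem B: `|cd(G|N)| ≤ 2` implies `N'' = 1` (solvable case). -/

set_option autoImplicit false
set_option linter.unusedSectionVars false
set_option linter.style.haveILetI false

open Cfsg Cfsg.Agent.Char Subgroup
open scoped commutatorElement

namespace Cfsg.Agent.Deg4

universe u

section
variable {G : Type*} [Group G] [Finite G]

theorem inner_incl {Y X : Subgroup G} [Fintype Y] [Fintype X] (hYX : Y ≤ X) (χ : IrrCharacter G)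
    (μ : X →* ℂˣ) (ν : Y →* ℂˣ) (h : classInner (fun x : X => χ.1 x) (fun x => (μ x : ℂ)) ≠ 0)
    (e : ∀ y : Y, μ ⟨y, hYX y.2⟩ = ν y) :
    classInner (fun x : Y => χ.1 x) (fun x => (ν x : ℂ)) ≠ 0 := by
  refine inner_comp_ne_zero_of_sub (inclusion hYX) (isCharacter_hom μ)
    ((χ.2.isCharacter.restrict X).sub_irr (isIrrCharacter_hom μ) h) (isCharacter_hom ν) ?_
  have : (fun y : Y => (μ (inclusion hYX y) : ℂ)) = fun x => (ν x : ℂ) :=
    funext fun y => congrArg Units.val (e y)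
  rw [this, (isIrrCharacter_hom ν).inner_self]
  exact one_ne_zero

theorem exists_triv_const (T Y : Subgroup G) [Y.Normal] [Fintype Y] [Fintype T]
    (χ : IrrCharacter G) (μ : Y →* ℂˣ)
    (h : classInner (fun x : Y => χ.1 x) (fun x => (μ x : ℂ)) ≠ 0)
    (hμ : ∀ x : Y, (x : G) ∈ T → μ x = 1) : ∃ γ, IsIrrCharacter T γ ∧
      classInner (fun x : T => χ.1 x) γ ≠ 0 ∧ Y.subgroupOf T ≤ charKer γ := by
  classical
  letI := Fintype.ofFinite G
  have h1 := inner_incl (inf_le_left : Y ⊓ T ≤ Y) χ μ 1 h fun y => hμ _ y.2.2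
  obtain ⟨γ, hγ, h2, h3⟩ := exists_irr_between (inf_le_right : Y ⊓ T ≤ T) χ.2.isClassFunction h1
  refine ⟨γ, hγ, h2, fun x hx => (mem_charKer_iff hγ.isCharacter).2 ?_⟩
  rw [← classInner_subgroupOf (inf_le_right : Y ⊓ T ≤ T)] at h3
  haveI : ((Y ⊓ T).subgroupOf T).Normal := by rw [inf_subgroupOf_right]; infer_instance
  exact restrict_eq_const_of_inner_one_ne_zero ((Y ⊓ T).subgroupOf T) hγ h3 ⟨x, hx, x.2⟩

theorem mem_comm_subgroupOf {V N : Subgroup G} (h : V ≤ N) {z : N} (hz : (z : G) ∈ ⁅V, V⁆) :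
    z ∈ ⁅V.subgroupOf N, V.subgroupOf N⁆ := by
  have : (z : G) ∈ (⁅V.subgroupOf N, V.subgroupOf N⁆).map N.subtype := by
    rwa [map_commutator, subgroupOf_map_subtype, inf_eq_left.2 h]
  obtain ⟨y, hy, e⟩ := this
  exact (Subtype.ext e : y = z) ▸ hy

/-- An invariant-free bound: a linear character of `p`-power order has a character above it whose
`r`-part is at most that of the index of the inertia group. -/
theorem exists_over_rpart {p r : ℕ} (hp : p.Prime) (hr : r.Prime) (hne : p ≠ r) (N : Subgroup G)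
    [N.Normal] [Fintype N] (μ : N →* ℂˣ) (hμ : RG.PLin p μ) : ∃ χ : IrrCharacter G,
      classInner (fun x : N => χ.1 x) (fun x => (μ x : ℂ)) ≠ 0 ∧
      ∀ k, r ^ k ∣ charDegree χ.1 → r ^ k ∣ (inertia N fun x => (μ x : ℂ)).index := by
  classical
  letI := Fintype.ofFinite G
  haveI := Fact.mk hr
  set H := inertia N fun x => (μ x : ℂ)
  obtain ⟨S⟩ : Nonempty (Sylow r H) := inferInstance
  set P := (S : Subgroup H).map H.subtype with hPdef
  have hP : IsPGroup r P := S.isPGroup'.map _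
  have hXH : N ⊔ P ≤ H :=
    sup_le (le_inertia N (isCharacter_hom μ).isClassFunction) (map_subtype_le _)
  obtain ⟨ν, hν⟩ := exists_ext N P (N ⊔ P) μ (fun x hx => by
    obtain ⟨k, hk⟩ := hμ
    obtain ⟨j, hj⟩ := hP ⟨x, hx⟩
    have e : x ^ r ^ j = 1 := Subtype.ext (by
      have := congrArg Subtype.val hj
      exact this)
    refine Units.ext (RG.eq_one_of_pows (c := r ^ j) hp (fun h => hne
      ((Nat.prime_dvd_prime_iff_eq hp hr).1 (hp.dvd_of_dvd_pow h))) (hk x) ?_)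
    rw [← Units.val_pow_eq_pow_val, ← map_pow, e, map_one, Units.val_one])
    (fun t ht => mem_sup_iff.1 ht) hXH
  obtain ⟨χ, h1, h2⟩ := exists_irr_over_lin (N ⊔ P) ν hr
  refine ⟨χ, inner_incl le_sup_left χ ν μ h1 fun y => hν y _, fun k hk => ?_⟩
  have e3 : ¬ r ∣ (N ⊔ P).relIndex H := fun h => S.not_dvd_index (h.trans (by
    have : P.relIndex H = (S : Subgroup H).index := by
      rw [hPdef, relIndex, subgroupOf, comap_map_eq_self_of_injective H.subtype_injective]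
    exact this ▸ relIndex_dvd_of_le_left H le_sup_right))
  refine ((hr.coprime_iff_not_dvd.2 e3).pow_left _).dvd_of_dvd_mul_left ?_
  rw [relIndex_mul_index hXH]
  exact h2 k hk

theorem not_mul_dvd {r a n : ℕ} (hr : r.Prime) (ha : a ≠ 0) (h1 : a * r ∣ n)
    (h2 : ∀ k, r ^ k ∣ n → r ^ k ∣ a) : False := by
  obtain ⟨j, b, hb, hab⟩ := Nat.exists_eq_pow_mul_and_not_dvd ha r hr.ne_one
  refine hb (Nat.dvd_of_mul_dvd_mul_left (pow_pos hr.pos j) ?_)
  rw [← hab, ← pow_succ]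
  refine h2 _ (Dvd.dvd.trans ?_ h1)
  rw [hab, pow_succ]
  exact mul_dvd_mul_right (dvd_mul_right _ _) _

namespace Cfg

variable {p r m n : ℕ} {V B N : Subgroup G} (h : Cfg p r V B N m n)
  (hN : N = V ⊔ B) (hZ0 : ⁅V, V⁆ ≠ ⊥)
  (hZ : ∀ M : Subgroup G, M.Normal → M ≠ ⊥ → ⁅V, V⁆ ≤ M)
include h hN hZ0 hZ

theorem exists_phi (hc : B ≤ centralizer ((⁅V, V⁆ : Subgroup G) : Set G)) :
    ∃ (φ : IrrCharacter N) (z : N), (z : G) ∈ ⁅V, V⁆ ∧ φ.1 z ≠ φ.1 1 ∧ ¬ p ∣ charDegree φ.1 := by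
  classical
  letI := Fintype.ofFinite G
  haveI := h.nV
  haveI := Fact.mk h.hr
  have hZV := commutator_le_left V V
  have hcen := h.central hN hZ0 hZ
  obtain ⟨⟨z, hz⟩, hz1⟩ := ne_bot_iff_exists_ne_one.1 hZ0
  let X := (⁅V, V⁆ ⊔ B).subgroupOf N
  obtain ⟨ζ, -, hζ⟩ := exists_hom_sub X ⊥ (commutator_le.2 fun x hx y hy => by
    obtain ⟨a, ha, b, hb, e1⟩ := mem_sup_iff.1 (mem_subgroupOf.1 hx)
    obtain ⟨c, hc', d, hd, e2⟩ := mem_sup_iff.1 (mem_subgroupOf.1 hy)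
    have h1 : Commute a c := commutatorElement_eq_one_iff_commute.1
      (mem_bot.1 (hcen ▸ commutator_mem_commutator ha (hZV hc')))
    have h2 : Commute a d := hc hd a ha
    have h3 : Commute c b := hc hb c hc'
    have h4 : Commute b d := h.cB b hb d hd
    refine mem_bot.2 (commutatorElement_eq_one_iff_commute.2 (Subtype.ext ?_))
    change (x : G) * y = y * x
    rw [e1, e2]
    exact (h1.mul_right h2).mul_left (h3.symm.mul_right h4))
    (x := ⟨z, h.VN (hZV hz)⟩) (mem_subgroupOf.2 (mem_sup_left hz))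
    fun e => hz1 (Subtype.ext (congrArg Subtype.val (mem_bot.1 e) :))
  obtain ⟨φ, h1, h2⟩ := exists_irr_over_lin X ζ h.hp
  refine ⟨φ, ⟨z, h.VN (hZV hz)⟩, hz, fun e => hζ (Units.ext ?_), fun hd => ?_⟩
  · have := apply_eq_of_inner_ne_zero (φ.2.isCharacter.restrict X) (isIrrCharacter_hom ζ) h1
      (z := ⟨⟨z, h.VN (hZV hz)⟩, mem_subgroupOf.2 (mem_sup_left hz)⟩) e
    simpa using this
  · have h3 : p ∣ B.relIndex N := by
      have := h2 1 (by rwa [pow_one])
      rw [pow_one] at this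
      exact this.trans (relIndex_dvd_of_le_left N le_sup_right)
    have h4 : Nat.card B * B.relIndex N ∣ Nat.card B * Nat.card V := by
      have := Grp.card_sup_dvd_mul_of_normal B V
      rw [sup_comm, ← hN] at this
      rwa [← Nat.card_congr (subgroupOfEquivOfLe h.BN).toEquiv, relIndex, card_mul_index,
        Nat.card_congr (subgroupOfEquivOfLe h.BN).toEquiv]
    obtain ⟨k, hk⟩ := h.pV.exists_card_eq
    exact h.ne ((Nat.prime_dvd_prime_iff_eq h.hp h.hr).1 (h.hp.dvd_of_dvd_pow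
      (hk ▸ h3.trans (Nat.dvd_of_mul_dvd_mul_left Nat.card_pos h4))))

theorem nab_case : False := by
  classical
  letI := Fintype.ofFinite G
  haveI := h.nV
  haveI := h.nN
  haveI := Fact.mk h.hp
  haveI := Fact.mk h.hr
  wlog hm : ¬ r ∣ m generalizing m n
  · exact this h.symm fun h2 => h.not_both hN hZ0 hZ (not_not.1 hm) h2
  have hZV := commutator_le_left V V
  have hZn : ∀ χ : IrrCharacter G, ¬ ⁅V, V⁆ ≤ charKer χ.1 → charDegree χ.1 = n := fun χ hχ =>
    (h.cd χ fun h1 => hχ ((hZV.trans h.VN).trans h1)).resolve_left fun e =>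
      hm (e ▸ dvd_of_not_le V h.pV χ hχ)
  obtain ⟨χ0, hχ0⟩ : ∃ χ : IrrCharacter G, ¬ ⁅V, V⁆ ≤ charKer χ.1 := by
    by_contra hc
    push Not at hc
    exact hZ0 (eq_bot_iff.2 fun x hx => eq_one_of_forall_irr fun χ =>
      (mem_charKer_irr χ).1 (hc χ hx))
  have hn : r ∣ n := hZn χ0 hχ0 ▸ dvd_of_not_le V h.pV χ0 hχ0
  obtain ⟨l, hl, hT⟩ := h.exists_fixed hZ0
  set T := inertia V fun x => (l x : ℂ) with hTdef
  have hVT : V ≤ T := le_inertia V (isCharacter_hom l).isClassFunction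
  have hi : T.index = m := by
    have := h.deg hl hTdef (irrOne T).2 fun x _ => (mem_charKer_irr _).2 rfl
    rw [charDegree_irrOne, mul_one] at this
    exact this.resolve_right fun e => hT (e ▸ hn)
  have hNT : ¬ N ≤ T := fun h1 => h.not_le hl (h.BN.trans h1)
  obtain ⟨χ1, h1, k, h2, h3⟩ := exists_small_of_not_le' V N T (h.pN hN) hVT hNT
  rw [hi] at h2
  have hk : ¬ p ^ k ∣ n := ((h.cd χ1 h1).resolve_left fun e => h3 (e ▸ h2)) ▸ h3
  by_cases hc : B ≤ centralizer ((⁅V, V⁆ : Subgroup G) : Set G)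
  · obtain ⟨x, hxN, hx⟩ := SetLike.not_le_iff_exists.1 hNT
    obtain ⟨μ, hμ, hμx⟩ := exists_hom_sub N T ((h.comm_le hN).trans hVT) hxN hx
    have hμ1 : μ ≠ 1 := fun e => hμx (by rw [e]; rfl)
    have hμp := h.pLin hN μ fun y hy => hμ y (hVT hy)
    obtain ⟨χ, h4, h5⟩ := exists_over_rpart h.hp h.hr h.ne N μ hμp
    have h6 : charDegree χ.1 = n := by
      refine (h.cd χ (not_le_charKer_of_over N μ hμ1 χ h4)).resolve_left fun e => hNT ?_
      obtain ⟨γ, hγ, h6, h7⟩ := exists_triv_const T N χ μ h4 hμ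
      refine le_of_induced T N χ hγ h6 ?_ h7
      rw [e]
      exact ((h.deg hl hTdef hγ fun y hy => h7 (h.VN hy)).resolve_right fun e =>
        hk (e ▸ hi ▸ h2.mul_right _)).le
    obtain ⟨φ, z, hz, h7, h8⟩ := h.exists_phi hN hZ0 hZ hc
    have hz' := mem_comm_subgroupOf h.VN hz
    have h9 : r ∣ charDegree φ.1 := dvd_of_not_le (V.subgroupOf N) (h.pV.comap_subtype) φ
      fun h9 => h7 ((mem_charKer_irr φ).1 (h9 hz'))
    obtain ⟨θ, ν, hθ, -, e⟩ := RG.exists_decomp h.hp φ.2 h8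
    have hψ := RG.isIrr_tw hθ.1 μ
    obtain ⟨ξ, hξ, h10⟩ := exists_irr_over N hψ
    have h11 : charDegree ξ = n := hZn ⟨ξ, hξ⟩ fun h11 => h7 (by
      have h12 := (mem_charKer_iff hψ.isCharacter).1
        (le_charKer_restrict _ hξ.isCharacter hψ h10 h11 (x := z) hz)
      have h13 : ν z = 1 := MonoidHom.mem_ker.1 (Abelianization.commutator_subset_ker ν
        (commutator_mono le_top le_top hz'))
      simp only [e, RG.tw, hμ z (hVT (hZV hz)), h13, map_one] at h12 ⊢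
      exact h12)
    have h12 := RG.Lies.dvd (d := n) ⟨⟨ξ, hξ⟩, h10, h11⟩ hψ
    rw [RG.charDegree_tw, ← RG.charDegree_tw θ ν, ← e] at h12
    exact not_mul_dvd h.hr index_ne_zero_of_finite ((mul_dvd_mul (index_dvd_of_le
      (RG.inertia_tw_le h.hp hθ hμp)) h9).trans h12) (h6 ▸ h5)
  · obtain ⟨b, hb, hb'⟩ := SetLike.not_le_iff_exists.1 hc
    rw [mem_centralizer_iff] at hb'
    push Not at hb'
    obtain ⟨z, hz, hne⟩ := hb'
    have hcen := h.central hN hZ0 hZ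
    have h4 : ⁅b, z⁆ ∈ ⁅V, V⁆ := mul_mem ((inferInstance : (⁅V, V⁆).Normal).conj_mem z hz b)
      (inv_mem hz)
    obtain ⟨ζ, -, hζ⟩ := exists_hom_sub ⁅V, V⁆ ⊥ (hcen ▸ commutator_mono le_rfl hZV) h4
      fun e => hne (commutatorElement_eq_one_iff_mul_comm.1 (mem_bot.1 e)).symm
    have h5 : V ≤ inertia ⁅V, V⁆ fun x => (ζ x : ℂ) :=
      (le_inertia_hom _ V ζ).2 (hcen ▸ bot_le)
    have h6 : ¬ N ≤ inertia ⁅V, V⁆ fun x => (ζ x : ℂ) := fun h6 =>
      hζ ((mem_inertia_hom _ ζ).1 (h6 (h.BN hb)) z hz h4)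
    obtain ⟨ξ, hξ, h7⟩ := exists_irr_over _ (isIrrCharacter_hom ζ)
    obtain ⟨e, -, -, he⟩ := exists_charDegree_eq_of_over _ hξ (isIrrCharacter_hom ζ) h7
    rw [hZn ⟨ξ, hξ⟩ (not_le_charKer_of_over _ ζ (fun e => hζ (by rw [e]; rfl)) _ h7)] at he
    obtain ⟨χ2, h8, j, h9, h10⟩ := exists_small_of_not_le' V N _ (h.pN hN) h5 h6
    have h11 : p ^ j ∣ n := he ▸ (h9.mul_left e).mul_right _
    have h12 : ¬ p ^ j ∣ m := ((h.cd χ2 h8).resolve_right fun e => h10 (e ▸ h11)) ▸ h10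
    rcases le_total j k with h13 | h13
    · exact h12 ((pow_dvd_pow p h13).trans h2)
    · exact hk ((pow_dvd_pow p h13).trans h11)

end Cfg

end

end Cfsg.Agent.Deg4
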