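import Mathlib
import Cfsg.Agent.Deg4.RelB

/-! Isaacs-Knutson Theorem B: `|cd(G|N)| ≤ 2` implies `N'' = 1` (solvable case). -/

set_option autoImplicit false
set_option linter.unusedSectionVars false
set_option linter.style.haveILetI false

open Cfsg Cfsg.Agent.Char Subgroup
open scoped commutatorElement

namespace Cfsg.Agent.Deg4

universe u

theorem comm_eq_bot_of_comm {G : Type*} [Group G] {N : Subgroup G}
    (h : ∀ a ∈ N, ∀ b ∈ N, a * b = b * a) : ⁅N, N⁆ = ⊥ :=
  eq_bot_iff.2 (commutator_le.2 fun a ha b hb =>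
    mem_bot.2 (commutatorElement_eq_one_iff_mul_comm.2 (h a ha b hb)))

theorem exists_cfg {G : Type*} [Group G] [Finite G] [Group.IsSolvable G] (N : Subgroup G)
    [N.Normal] {m n r : ℕ} (hr : r.Prime) (hN : ¬ IsPGroup r N)
    (hZ : ∀ M : Subgroup G, M.Normal → M ≠ ⊥ → r ∣ Nat.card M)
    (h : ∀ χ : IrrCharacter G, ¬ N ≤ charKer χ.1 → charDegree χ.1 = m ∨ charDegree χ.1 = n) :
    ∃ p V B, Cfg p r V B N m n ∧ B ⊓ centralizer (V : Set G) = ⊥ := by
  haveI := Fact.mk hr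
  obtain ⟨R, ⟨hRn, hRN, hR⟩, hmax⟩ := (wellFounded_gt (α := Subgroup G)).has_min
    {R | R.Normal ∧ R ≤ N ∧ IsPGroup r R} ⟨⊥, inferInstance, bot_le, IsPGroup.of_bot⟩
  have hs := QuotientGroup.mk'_surjective R
  haveI := Normal.map ‹N.Normal› _ hs
  have hker : ∀ x, QuotientGroup.mk' R x = 1 ↔ x ∈ R := fun x => QuotientGroup.eq_one_iff x
  obtain ⟨p, M, hp, hMn, hM0, hMN, hMc, -, hMp, -⟩ := Grp.exists_minNormal_elementaryAbelian_le
    (N.map (QuotientGroup.mk' R)) fun e => hN (hR.to_le (by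
      rwa [Subgroup.map_eq_bot_iff, QuotientGroup.ker_mk'] at e))
  haveI := Fact.mk hp
  set Y := M.comap (QuotientGroup.mk' R) with hY
  have hRY : R ≤ Y := fun x hx => by
    rw [hY, mem_comap, (hker x).2 hx]; exact M.one_mem
  have hYN : Y ≤ N := by
    refine (comap_mono hMN).trans ?_
    rw [comap_map_eq, QuotientGroup.ker_mk', sup_eq_left.2 hRN]
  have hYR : ¬ Y ≤ R := fun e => hM0 (by
    rw [← map_comap_eq_self_of_surjective hs M, Subgroup.map_eq_bot_iff, QuotientGroup.ker_mk']; exact e)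
  have hne : p ≠ r := by
    rintro rfl
    refine hmax Y ⟨inferInstance, hYN, hMp.comap_of_ker_isPGroup _ ?_⟩
      (lt_of_le_of_ne hRY fun e => hYR e.ge)
    rwa [QuotientGroup.ker_mk']
  obtain ⟨S⟩ : Nonempty (Sylow p Y) := inferInstance
  set B := (S : Subgroup Y).map Y.subtype with hB
  have hBp : IsPGroup p B := S.isPGroup'.map _
  have hBY : B ≤ Y := map_subtype_le _
  have hcop := cop_of_pg hne hBp hR
  have hRs : Group.IsSolvable R := inferInstance
  have hYB : Y ≤ R ⊔ B := by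
    have h1 : (R ⊔ B).relIndex Y ∣ B.relIndex Y := relIndex_dvd_of_le_left Y le_sup_right
    have h2 : (R ⊔ B).relIndex Y ∣ R.relIndex Y := relIndex_dvd_of_le_left Y le_sup_left
    have h3 : B.relIndex Y = (S : Subgroup Y).index := by
      rw [hB, relIndex, subgroupOf, comap_map_eq_self_of_injective Y.subtype_injective]
    have h4 := relIndex_ker (K := Y) (QuotientGroup.mk' R)
    rw [QuotientGroup.ker_mk', hY, map_comap_eq_self_of_surjective hs] at h4
    obtain ⟨k, hk⟩ := hMp.exists_card_eq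
    rw [h4, hk] at h2
    exact relIndex_eq_one.1 (Nat.eq_one_of_dvd_coprimes ((hp.coprime_iff_not_dvd.2
      S.not_dvd_index).pow_left k) h2 (h3 ▸ h1))
  have hF : normalizer (B : Set G) ⊔ Y = ⊤ := Sylow.normalizer_sup_eq_top S
  have hU : ∀ g : G, ∃ e ∈ ⁅R, B⁆, ∃ u ∈ normalizer (B : Set G), g = e * u := by
    intro g
    have h1 : g ∈ R ⊔ normalizer (B : Set G) := by
      have : ⊤ ≤ R ⊔ normalizer (B : Set G) :=
        hF ▸ sup_le le_sup_right (hYB.trans (sup_le_sup_left le_normalizer _))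
      exact this (mem_top g)
    obtain ⟨x, hx, u, hu, rfl⟩ := mem_sup_iff.1 h1
    obtain ⟨c, hc, d, hd, rfl⟩ := Solv.coprime_exists_centralizer_mul_commutator B R
      le_normalizer_of_normal hcop (Or.inr hRs) x hx
    exact ⟨c * d * c⁻¹, (Solv.le_normalizer_commutator_left R B hc.1 d).1 hd, c * u,
      mul_mem (centralizer_le_normalizer _ hc.2) hu, by group⟩
  have hVn : (⁅R, B⁆).Normal := normalizer_eq_top_iff.1 (eq_top_iff.2 fun g _ => by
    obtain ⟨e, he, u, hu, rfl⟩ := hU g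
    exact mul_mem (le_normalizer he)
      (Solv.le_normalizer_commutator le_normalizer_of_normal le_rfl hu))
  refine ⟨p, ⁅R, B⁆, B, ⟨hp, hr, hne, hVn, inferInstance, (commutator_le_left R B).trans hRN,
    hBY.trans hYN, hR.to_le (commutator_le_left R B), hBp, fun a ha b hb => ?_, fun e => hYR ?_,
    Solv.coprime_commutator_commutator B R le_normalizer_of_normal hcop (Or.inr hRs), hU, h⟩, ?_⟩
  · refine commutatorElement_eq_one_iff_mul_comm.1 (Solv.eq_one_of_mem_of_coprime hcop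
      (mul_mem (mul_mem (mul_mem ha hb) (inv_mem ha)) (inv_mem hb)) ((hker _).1 ?_))
    rw [map_commutatorElement, commutatorElement_eq_one_iff_mul_comm]
    exact congrArg Subtype.val (hMc.is_comm.comm (⟨_, hBY ha⟩ : M) ⟨_, hBY hb⟩)
  · rwa [e, sup_bot_eq] at hYB
  · by_contra h0
    have h1 : (B ⊓ centralizer ((⁅R, B⁆ : Subgroup G) : Set G)).Normal := by
      refine normalizer_eq_top_iff.1 (eq_top_iff.2 fun g _ => ?_)
      obtain ⟨e, he, u, hu, rfl⟩ := hU g
      refine mul_mem (centralizer_le_normalizer _ fun x hx => (hx.2 e he).symm)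
        (Solv.le_normalizer_inf le_rfl
          (Solv.le_normalizer_centralizer le_normalizer_of_normal) hu)
    obtain ⟨k, hk⟩ := (hBp.to_le (inf_le_left : B ⊓ centralizer
      ((⁅R, B⁆ : Subgroup G) : Set G) ≤ B)).exists_card_eq
    exact hne ((Nat.prime_dvd_prime_iff_eq hr hp).1 (hr.dvd_of_dvd_pow (hk ▸ hZ _ h1 h0))).symm

/-- Isaacs-Knutson, Theorem B. -/
theorem relTwo (G : Type u) [Group G] [Finite G] [Group.IsSolvable G] (m n : ℕ) :
    ∀ (N : Subgroup G) [N.Normal],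
    (∀ χ : IrrCharacter G, ¬ N ≤ charKer χ.1 → charDegree χ.1 = m ∨ charDegree χ.1 = n) →
      ⁅⁅N, N⁆, ⁅N, N⁆⁆ = ⊥ := by
  induction hk : Nat.card G using Nat.strong_induction_on generalizing G with
  | _ k ih =>
  intro N
  induction hj : Nat.card N using Nat.strong_induction_on generalizing N with
  | _ j ih2 =>
  intro _ h
  by_contra h0
  have hI1 : ∀ M : Subgroup G, M.Normal → M ≠ ⊥ → ⁅⁅N, N⁆, ⁅N, N⁆⁆ ≤ M := by
    intro M _ hM
    have hs := QuotientGroup.mk'_surjective M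
    haveI := Normal.map ‹N.Normal› _ hs
    have := ih _ (hk ▸ Grp.card_quotient_lt M hM) (G ⧸ M) rfl (N.map (QuotientGroup.mk' M))
      fun ψ hψ => by
        rw [← charDegree_inflateIrr _ hs]
        exact h _ (by rwa [le_charKer_inflateIrr])
    rwa [← map_commutator, ← map_commutator, Subgroup.map_eq_bot_iff, QuotientGroup.ker_mk'] at this
  have hI2 : ∀ M : Subgroup G, M.Normal → M < N → ⁅⁅M, M⁆, ⁅M, M⁆⁆ = ⊥ := fun M _ hM =>
    ih2 _ (hj ▸ Grp.card_lt_of_lt hM) M rfl fun χ hχ => h χ fun h1 => hχ (hM.le.trans h1)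
  obtain ⟨r, Z, hr, hZn, hZ0, -, -, -, hZr, -⟩ :=
    Grp.exists_minNormal_elementaryAbelian_le ⁅⁅N, N⁆, ⁅N, N⁆⁆ h0
  haveI := Fact.mk hr
  have hd := (hZr.to_le (hI1 Z hZn hZ0)).card_eq_or_dvd.resolve_left (mt card_eq_one.1 h0)
  obtain ⟨p, V, B, hC, hf⟩ := exists_cfg N hr (fun hN => h0 (comm_eq_bot_of_comm
    (comm_commutator_of_rel_two (p := r) N ⊥ (by simp) (hN.map _) h)))
    (fun M hM hM0 => hd.trans (card_dvd_of_le (hI1 M hM hM0))) h
  by_cases hV : ⁅V, V⁆ = ⊥
  · exact h0 (eq_bot_iff.2 (hV ▸ commutator_mono (hC.ab_case hV hf) (hC.ab_case hV hf)))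
  have h1 : V ≤ ⁅V ⊔ B, V ⊔ B⁆ := hC.VB.ge.trans (commutator_mono le_sup_left le_sup_right)
  have hN : N = V ⊔ B := by
    by_contra hne
    refine hV (eq_bot_iff.2 ((commutator_mono h1 h1).trans (hI2 _ hC.normal_sup
      (lt_of_le_of_ne (sup_le hC.VN hC.BN) (Ne.symm hne))).le))
  rw [← hN] at h1
  exact hC.nab_case hN hV fun M hM hM0 => (commutator_mono h1 h1).trans (hI1 M hM hM0)

end Cfsg.Agent.Deg4
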