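import Mathlib
import Cfsg.Agent.Deg4.RelTwo

/-! Frobenius quotients and the degree pattern `1, a, b, a b`. -/

set_option autoImplicit false
set_option linter.unusedSectionVars false
set_option linter.style.haveILetI false

open Cfsg Cfsg.Agent.Char Subgroup
open scoped commutatorElement

namespace Cfsg.Agent.Deg4

variable {G : Type*} [Group G] [Finite G]

/-- Isaacs 12.4 for a given minimal non-abelian quotient with trivial centre. -/
theorem frob_data (K : Subgroup G) [K.Normal] (hab : ∃ a b : G ⧸ K, a * b ≠ b * a)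
    (hmin : ∀ N : Subgroup (G ⧸ K), N.Normal → N ≠ ⊥ → commutator (G ⧸ K) ≤ N)
    (hc : ∀ x ∈ commutator (G ⧸ K), ∀ y ∈ commutator (G ⧸ K), x * y = y * x)
    (hZ : center (G ⧸ K) = ⊥) {r : ℕ} (hr : r.Prime) (hd : r ∣ Nat.card (commutator (G ⧸ K))) :
    ∃ (L : Subgroup G) (_ : L.Normal), commutator G ≤ L ∧ L.index ≠ 1 ∧
      L.index ∈ cdSet G ∧ ¬ r ∣ L.index ∧
      ∀ ψ : IrrCharacter L, L.index * charDegree ψ.1 ∈ cdSet G ∨ r ∣ charDegree ψ.1 := by
  classical
  letI := Fintype.ofFinite G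
  obtain ⟨hne, hf⟩ := fpf_of_center_eq_bot hab hmin hc hZ
  set π := QuotientGroup.mk' K
  have hs : Function.Surjective π := QuotientGroup.mk'_surjective K
  set N := commutator (G ⧸ K)
  set L := N.comap π
  have hi : L.index = N.index := index_comap_of_surjective _ hs
  let ρ : L →* N := (π.comp L.subtype).codRestrict N fun x => x.2
  have hρ : Function.Surjective ρ := by
    rintro ⟨y, hy⟩
    obtain ⟨y, rfl⟩ := hs y
    exact ⟨⟨y, hy⟩, rfl⟩
  have hfix : ∀ g, g ∉ N → ∀ μ : N →* ℂˣ, μ.comp (MulAut.conjNormal g).toMonoidHom = μ → μ = 1 := by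
    intro g hg μ hμ
    have hinj : Function.Injective fun x : N => MulAut.conjNormal g x * x⁻¹ := by
      intro a b e
      have e1 : g * a * g⁻¹ * (a : G ⧸ K)⁻¹ = g * b * g⁻¹ * (b : G ⧸ K)⁻¹ := congrArg Subtype.val e
      refine Subtype.ext (inv_mul_eq_one.1 (hf g hg _ (N.mul_mem (N.inv_mem b.2) a.2) ?_)).symm
      calc g * ((b : G ⧸ K)⁻¹ * a) = g * (b : G ⧸ K)⁻¹ * g⁻¹ * (g * a * g⁻¹ * (a : G ⧸ K)⁻¹) * a * g := by
            group
        _ = _ := by rw [e1]; group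
    ext y
    obtain ⟨x, rfl⟩ := Finite.surjective_of_injective hinj y
    have : μ (MulAut.conjNormal g x) = μ x := DFunLike.congr_fun hμ x
    simp [this]
  have hmain : ∀ ψ : IrrCharacter L, L.index * charDegree ψ.1 ∈ cdSet G ∨
      ∀ μ : N →* ℂˣ, (fun x => ψ.1 x * μ (ρ x)) = ψ.1 := by
    intro ψ
    have : Finite (N →* ℂˣ) := Finite.of_injective
      (fun μ => (⟨_, isIrrCharacter_hom μ⟩ : IrrCharacter N))
      fun μ ν e => hom_coe_inj (congrArg Subtype.val e)
    rcases affine_dichotomy L (fun g (μ : N →* ℂˣ) => μ.comp (MulAut.conjNormal (π g)).toMonoidHom)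
      (fun μ (φ : L → ℂ) x => φ x * μ (ρ x)) (fun g φ => conjChar L φ g)
      (fun _ _ _ => rfl) (fun g h μ => by ext; simp) (fun μ => by ext; simp)
      (conjChar_one L) (fun g h φ => conjChar_mul L φ g h) (fun φ => by ext; simp)
      (fun a b φ => by ext; simp [mul_comm, mul_left_comm])
      (fun g μ φ => by
        ext x
        rw [conjChar_apply, conjChar_apply]
        congr 3)
      (fun g hg μ => hfix _ hg μ) ψ.1
      (fun g hg μ => conjChar_of_mem (ψ.2.mul_linear (μ.comp ρ)).isClassFunction hg) with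
      ⟨μ, hμ⟩ | h1
    · have h2 := ψ.2.mul_linear (μ.comp ρ)
      refine Or.inl ⟨⟨_, (isIrr_indFun_iff_inertia_le L h2).2 hμ⟩, charDegree_eq_of_one_eq ?_⟩
      refine (indFun_one _ _).trans ?_
      rw [Nat.cast_mul, coe_charDegree_irr]
      simp
    · exact Or.inr h1
  have hsep : ∀ y : N, y ≠ 1 → ∃ μ : N →* ℂˣ, μ y ≠ 1 := fun y hy => by
    letI : CommGroup N := { (inferInstance : Group N) with
      mul_comm := fun a b => Subtype.ext (hc _ a.2 _ b.2) }
    exact CommGroup.exists_apply_ne_one_of_hasEnoughRootsOfUnity N ℂ hy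
  have hvan : ∀ ψ : IrrCharacter L, (∀ μ : N →* ℂˣ, (fun x => ψ.1 x * μ (ρ x)) = ψ.1) →
      r ∣ charDegree ψ.1 := by
    intro ψ h1
    refine hr.dvd_of_dvd_pow (hd.trans (Dvd.dvd.trans ?_
      (index_dvd_sq_of_vanish ρ.ker ψ.2 fun x hx => ?_)))
    · rw [index_ker, MonoidHom.range_eq_top.2 hρ, card_top]
    · obtain ⟨μ, hμ⟩ := hsep _ hx
      by_contra h0
      exact hμ (Units.val_eq_one.1 ((mul_eq_left₀ h0).1 (congrFun (h1 μ) x)))
  refine ⟨L, inferInstance, ?_, ?_, ?_, ?_, fun ψ => (hmain ψ).imp_right (hvan ψ)⟩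
  · rw [← map_le_iff_le_comap, map_commutator_eq]
    exact commutator_mono le_top le_top
  · rwa [hi, Ne, index_eq_one]
  · have := (hmain (irrOne L)).resolve_right fun h1 => hr.one_lt.ne' (Nat.dvd_one.1
      (charDegree_irrOne (G := L) ▸ hvan _ h1))
    rwa [charDegree_irrOne, mul_one] at this
  · rw [hi]
    intro hrd
    haveI := Fact.mk hr
    obtain ⟨P⟩ : Nonempty (Sylow r (G ⧸ K)) := inferInstance
    have hlt : ¬ (P : Subgroup (G ⧸ K)) ≤ N := fun h1 =>
      P.not_dvd_index (hrd.trans (index_dvd_of_le h1))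
    obtain ⟨g, hgP, hgN⟩ := SetLike.not_le_iff_exists.1 hlt
    letI : MulAction (P : Subgroup (G ⧸ K)) N :=
      MulAction.compHom N ((MulAut.conjNormal (H := N)).comp (P : Subgroup (G ⧸ K)).subtype)
    obtain ⟨b, hb, hb1⟩ := P.isPGroup'.exists_fixed_point_of_prime_dvd_card_of_fixed_point N hd
      (a := 1) fun x => map_one (MulAut.conjNormal (H := N) x.1)
    have : g * b * g⁻¹ = b := congrArg Subtype.val (hb ⟨g, hgP⟩)
    exact hb1 (Subtype.ext (hf g hgN b b.2 (mul_inv_eq_iff_eq_mul.1 this)).symm)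

theorem mem_of_coprime_pow {L : Subgroup G} {x : G} {a b : ℕ} (h : a.Coprime b) (ha : x ^ a ∈ L)
    (hb : x ^ b ∈ L) : x ∈ L := by
  have e : x = (x ^ a) ^ a.gcdA b * (x ^ b) ^ a.gcdB b := by
    rw [← zpow_natCast, ← zpow_natCast, ← zpow_mul, ← zpow_mul, ← zpow_add, ← Nat.gcd_eq_gcd_ab,
      h]
    simp
  exact e ▸ L.mul_mem (L.zpow_mem ha _) (L.zpow_mem hb _)

theorem exists_degree_over (K : Subgroup G) [K.Normal] {p k : ℕ} (hp : p.Prime)
    (hK : K.index = p ^ k) (θ : IrrCharacter K) :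
    ∃ (χ : IrrCharacter G) (i : ℕ), charDegree χ.1 = p ^ i * charDegree θ.1 := by
  obtain ⟨χ, ⟨e, he, hed⟩, -⟩ := exists_over K θ
  obtain ⟨i, -, rfl⟩ := (Nat.dvd_prime_pow hp).1 (hK ▸ hed)
  exact ⟨χ, i, he⟩

theorem hom_eq_one_of_pow {p : ℕ} [hp : Fact p.Prime] (ν : pResidual p G →* ℂˣ)
    {x : pResidual p G} {k : ℕ} (hx : x ^ p ^ k = 1) : ν x = 1 :=
  RG.eq_one_of_pows hp.out
    (not_dvd_orderOf_hom_of_pResidual_eq_top Transfer.pResidual_pResidual ν) (k := k)
    (by rw [← map_pow, hx, map_one]) (by rw [← MonoidHom.pow_apply, pow_orderOf_eq_one]; rfl)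

section A2

variable {p e b : ℕ} [hp : Fact p.Prime] (hb : ¬ p ∣ b)
  (hcd : ∀ χ : IrrCharacter G, charDegree χ.1 = 1 ∨ charDegree χ.1 = p ^ e ∨
    charDegree χ.1 = b ∨ charDegree χ.1 = p ^ e * b)
include hb hcd

theorem deg_res (ψ : IrrCharacter (pResidual p G)) (h : ¬ p ∣ charDegree ψ.1) :
    charDegree ψ.1 = 1 ∨ charDegree ψ.1 = b := by
  obtain ⟨k, hk⟩ := Transfer.index_pResidual (p := p) (G := G)
  obtain ⟨χ, i, hi⟩ := exists_degree_over _ hp.out hk ψ
  have h5 := Nat.ordCompl_pow_mul_of_not_dvd i hp.out h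
  rw [← hi] at h5
  rw [← h5]
  rcases hcd χ with h6 | h6 | h6 | h6 <;> rw [h6]
  · simp
  · left
    have := Nat.ordCompl_pow_mul_of_not_dvd e hp.out hp.out.not_dvd_one
    rwa [mul_one] at this
  · right
    have := Nat.ordCompl_pow_mul_of_not_dvd 0 hp.out hb
    rwa [pow_zero, one_mul] at this
  · exact Or.inr (Nat.ordCompl_pow_mul_of_not_dvd _ hp.out hb)

theorem core [Group.IsSolvable G]
    (h1 : ⁅pResidual p G, (⊤ : Subgroup G)⁆ ≤ ⁅pResidual p G, pResidual p G⁆) (E : Subgroup G)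
    [E.Normal] (hE0 : E ≠ ⊥) (hEp : IsPGroup p E) (hEc : ∀ x ∈ E, ∀ y ∈ E, x * y = y * x)
    (hEK : E ≤ pResidual p G) (hi : ¬ p ∣ E.relIndex (pResidual p G))
    (hU : ∀ M : Subgroup G, M.Normal → M ≠ ⊥ → E ≤ M) :
    commutator G ≤ E ∧ center G = ⊥ ∧ ∃ x y : G, x * y ≠ y * x := by
  classical
  set K := pResidual p G with hK
  obtain ⟨k, hk⟩ := hEp.exists_card_eq
  have hcop : (Nat.card E).Coprime (E.relIndex K) :=
    hk ▸ (hp.out.coprime_iff_not_dvd.2 hi).pow_left k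
  have hpow : ∀ y ∈ K, y ^ E.relIndex K ∈ E := fun y hy =>
    mem_subgroupOf.1 ((E.subgroupOf K).pow_index_mem (⟨y, hy⟩ : K))
  have hpE : ∀ y ∈ E, y ^ Nat.card E = 1 := fun y hy => by
    have := congrArg Subtype.val (pow_card_eq_one' (x := (⟨y, hy⟩ : E)))
    exact this
  have hJ : ∀ x ∈ ⁅K, K⁆, ∀ y ∈ ⁅K, K⁆, x * y = y * x := by
    have := comm_of_rel_one (n := b) (commutator K) fun ψ hψ =>
      (deg_res hb hcd ψ fun hd => hi (hd.trans (ψ.2.deg_dvd_index_of_comm
        (coe_charDegree_irr ψ).symm (E.subgroupOf K) fun x hx y hy =>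
          Subtype.ext (hEc _ hx _ hy)))).resolve_left fun e =>
            hψ ((commutator_le_charKer_iff ψ).2 e)
    rw [← map_subtype_commutator]
    rintro _ ⟨x, hx, rfl⟩ _ ⟨y, hy, rfl⟩
    exact congrArg Subtype.val (this x hx y hy)
  have hJK := commutator_le_left K K
  have hJE : ⁅K, K⁆ ≤ E := by
    let F : Subgroup G :=
      { carrier := {x | x ∈ ⁅K, K⁆ ∧ x ^ E.relIndex K = 1}
        mul_mem' := fun {x y} hx hy => ⟨mul_mem hx.1 hy.1, by
          rw [Commute.mul_pow (hJ x hx.1 y hy.1), hx.2, hy.2, one_mul]⟩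
        one_mem' := ⟨one_mem _, one_pow _⟩
        inv_mem' := fun {x} hx => ⟨inv_mem hx.1, by rw [inv_pow, hx.2, inv_one]⟩ }
    have hF : F.Normal := ⟨fun x hx g => ⟨(inferInstance : (⁅K, K⁆).Normal).conj_mem x hx.1 g,
      by rw [conj_pow, hx.2]; simp⟩⟩
    have hF0 : F = ⊥ := by
      by_contra h0
      refine hE0 (eq_bot_iff.2 fun x hx => ?_)
      have h2 := pow_gcd_eq_one.2 ⟨hpE x hx, (hU F hF h0 hx).2⟩
      rwa [hcop, pow_one] at h2
    intro y hy
    have h2 : y ^ Nat.card E ∈ F := ⟨pow_mem hy _, by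
      rw [← pow_mul, mul_comm, pow_mul, hpE _ (hpow y (hJK hy))]⟩
    rw [hF0, mem_bot] at h2
    exact mem_of_coprime_pow hcop (h2 ▸ E.one_mem) (hpow y (hJK hy))
  have hKc : ¬ ∀ x ∈ K, ∀ y ∈ K, x * y = y * x := by
    intro hc
    obtain ⟨⟨x, hx⟩, hx1⟩ := ne_bot_iff_exists_ne_one.1 hE0
    obtain ⟨ν, -, hν⟩ := exists_hom_sub K ⊥ (comm_eq_bot_of_comm hc).le (hEK hx)
      fun e => hx1 (Subtype.ext (mem_bot.1 e))
    exact hν (hom_eq_one_of_pow ν (k := k) (Subtype.ext (by rw [← hk]; exact hpE x hx)))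
  obtain ⟨H, hH⟩ := exists_right_complement'_of_coprime (N := E.subgroupOf K) (by
    rwa [Nat.card_congr (subgroupOfEquivOfLe hEK).toEquiv])
  set H' := H.map K.subtype
  have hH'K : H' ≤ K := map_subtype_le _
  have hcard : Nat.card H' = E.relIndex K := by
    rw [← Nat.card_congr (H.equivMapOfInjective _ K.subtype_injective).toEquiv]
    exact hH.symm.index_eq_card.symm
  have hdec : ∀ x ∈ K, ∃ u ∈ E, ∃ v ∈ H', x = u * v := fun x hx => by
    obtain ⟨u, hu, v, hv, e⟩ := Solv.exists_mul_of_isComplement' hH ⟨x, hx⟩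
    exact ⟨u, hu, v, ⟨v, hv, rfl⟩, congrArg Subtype.val e⟩
  have hC : centralizer (K : Set G) = ⊥ := by
    by_contra h0
    have h2 := hU _ inferInstance h0
    have hH'c : ∀ x ∈ H', ∀ y ∈ H', Commute x y := fun x hx y hy =>
      commutatorElement_eq_one_iff_commute.1 (Solv.eq_one_of_mem_of_coprime (hcard ▸ hcop)
        (hJE (commutator_mem_commutator (hH'K hx) (hH'K hy)))
        (mul_mem (mul_mem (mul_mem hx hy) (inv_mem hx)) (inv_mem hy)))
    refine hKc fun x hx y hy => ?_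
    obtain ⟨u, hu, v, hv, rfl⟩ := hdec x hx
    obtain ⟨u', hu', v', hv', e⟩ := hdec y hy
    have h3 : Commute u y := (h2 hu y hy).symm
    have h4 : Commute v u' := h2 hu' v (hH'K hv)
    exact h3.mul_left (e ▸ h4.mul_right (hH'c v hv v' hv'))
  obtain ⟨P, hP⟩ := hEp.exists_le_sylow
  have hKP : ⁅K, (P : Subgroup G)⁆ ≤ E := (commutator_mono le_rfl le_top).trans (h1.trans hJE)
  have hKN : K ≤ normalizer ((P : Subgroup G) : Set G) := by
    refine le_normalizer_iff.2 fun g hg x hx => ?_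
    have : g * x * g⁻¹ = ⁅g, x⁆ * x := by simp [commutatorElement_def]
    exact this ▸ mul_mem (hP (hKP (commutator_mem_commutator hg hx))) hx
  have htop : K ⊔ (P : Subgroup G) = ⊤ := by
    obtain ⟨j, hj⟩ := Transfer.index_pResidual (p := p) (G := G)
    exact index_eq_one.1 (Nat.eq_one_of_dvd_coprimes ((hp.out.coprime_iff_not_dvd.2
      P.not_dvd_index).pow_left j) (hj ▸ index_dvd_of_le le_sup_left)
      (index_dvd_of_le le_sup_right))
  haveI hPn : (P : Subgroup G).Normal := normalizer_eq_top_iff.1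
    (eq_top_iff.2 (htop ▸ sup_le hKN le_normalizer))
  have hEP : ⁅E, (P : Subgroup G)⁆ = ⊥ := by
    by_contra h0
    haveI : Group.IsNilpotent (P : Subgroup G) := P.isPGroup'.isNilpotent
    exact hE0 (eq_bot_of_le_comm (P : Subgroup G) E hP (hU _ inferInstance h0))
  have hPE : (P : Subgroup G) ≤ E := by
    intro x hx
    obtain ⟨j, hj⟩ := P.isPGroup'.exists_card_eq
    obtain ⟨c, hc, d, hd, rfl⟩ := Solv.coprime_exists_centralizer_mul_commutator H' (P : Subgroup G)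
      le_normalizer_of_normal (by
        rw [hcard, hj]; exact ((hp.out.coprime_iff_not_dvd.2 hi).pow_left j).symm)
      (Or.inr inferInstance) x hx
    have h2 : c ∈ centralizer (K : Set G) := fun y hy => by
      obtain ⟨u, hu, v, hv, rfl⟩ := hdec y hy
      have h3 : Commute u c := commutatorElement_eq_one_iff_commute.1
        (mem_bot.1 (hEP ▸ commutator_mem_commutator hu hc.1))
      have h4 : Commute v c := hc.2 v hv
      exact h3.mul_left h4
    rw [hC, mem_bot] at h2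
    rw [h2, one_mul]
    rw [commutator_comm] at hd
    exact hKP (commutator_mono hH'K le_rfl hd)
  have hKt : K = ⊤ := by rwa [sup_eq_left.2 (hPE.trans hEK)] at htop
  refine ⟨by rw [commutator_def, ← hKt]; exact hJE, eq_bot_iff.2 (hC ▸ center_le_centralizer _),
    ?_⟩
  by_contra hc
  push Not at hc
  exact hKc fun x _ y _ => hc x y

theorem lin_inv (hb1 : b ≠ 1) {i : ℕ} (hi : i ≠ 0)
    (hθ : ∃ θ : IrrCharacter (pResidual p G), charDegree θ.1 = p ^ i) :
    ⁅pResidual p G, (⊤ : Subgroup G)⁆ ≤ ⁅pResidual p G, pResidual p G⁆ := by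
  classical
  letI := Fintype.ofFinite G
  set K := pResidual p G with hK
  obtain ⟨θ, hθ⟩ := hθ
  obtain ⟨k, hk⟩ := Transfer.index_pResidual (p := p) (G := G)
  have hpp : ∀ (χ : IrrCharacter G) (j : ℕ), charDegree χ.1 ∣ p ^ j → charDegree χ.1 ≠ 1 →
      charDegree χ.1 = p ^ e := by
    intro χ j hj h1
    have h2 : ¬ b ∣ p ^ j := fun h => hb1 (Nat.eq_one_of_dvd_coprimes
      ((hp.out.coprime_iff_not_dvd.2 hb).pow_left j) h dvd_rfl)
    rcases hcd χ with e | e | e | e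
    · exact (h1 e).elim
    · exact e
    · exact (h2 (e ▸ hj)).elim
    · exact (h2 ((dvd_mul_left _ _).trans (e ▸ hj))).elim
  haveI : Finite (K →* ℂˣ) := Finite.of_injective
    (fun μ => (⟨_, isIrrCharacter_hom μ⟩ : IrrCharacter K))
    fun μ ν e => hom_coe_inj (congrArg Subtype.val e)
  let I : Subgroup (K →* ℂˣ) :=
    { carrier := {ν | ∀ x : K, (x : G) ∈ ⁅K, (⊤ : Subgroup G)⁆ → ν x = 1}
      mul_mem' := fun {x y} hx hy z hz => by rw [MonoidHom.mul_apply, hx z hz, hy z hz, mul_one]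
      one_mem' := fun _ _ => rfl
      inv_mem' := fun {x} hx z hz => by rw [MonoidHom.inv_apply, hx z hz, inv_one] }
  have hI : I = ⊤ := by
    by_contra hI
    obtain ⟨q, hq, hqd⟩ := Nat.exists_prime_and_dvd (mt index_eq_one.1 hI)
    haveI := Fact.mk hq
    obtain ⟨Q⟩ : Nonempty (Sylow q (K →* ℂˣ)) := inferInstance
    refine Q.not_dvd_index (hqd.trans (index_dvd_of_le fun ν hν => ?_))
    obtain ⟨j, hj⟩ := Q.2 ⟨ν, hν⟩
    have hj' : ν ^ q ^ j = 1 := congrArg Subtype.val hj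
    by_cases hν1 : ν = 1
    · exact hν1 ▸ I.one_mem
    have hqp : q ≠ p := by
      rintro rfl
      exact hν1 (RG.eq_one_of_pows hq (not_dvd_orderOf_hom_of_pResidual_eq_top
        Transfer.pResidual_pResidual ν) hj' (pow_orderOf_eq_one ν))
    have hν' : RG.PLin q ν := ⟨j, fun x => by
      rw [← Units.val_pow_eq_pow_val, ← MonoidHom.pow_apply, hj']; rfl⟩
    set T := inertia K fun x => (ν x : ℂ) with hT
    suffices hT : T = ⊤ from fun x hx => apply_eq_one_of_mem ((le_inertia_hom K ⊤ ν).1 hT.ge hx)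
    by_contra hT1
    have hKT : K ≤ T := le_inertia K (isCharacter_hom ν).isClassFunction
    obtain ⟨S⟩ : Nonempty (Sylow p T) := inferInstance
    have hS : K.subgroupOf T ⊔ (S : Subgroup T) = ⊤ :=
      index_eq_one.1 (Nat.eq_one_of_dvd_coprimes ((hp.out.coprime_iff_not_dvd.2
        S.not_dvd_index).pow_left k) (hk ▸ (index_dvd_of_le le_sup_left).trans
          (relIndex_dvd_index_of_le hKT)) (index_dvd_of_le le_sup_right))
    obtain ⟨m, hm⟩ := exists_ext K ((S : Subgroup T).map T.subtype) T ν (fun x hx => by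
      obtain ⟨l, hl⟩ := (S.isPGroup'.map T.subtype) ⟨x, hx⟩
      refine hom_eq_one_of_pow ν (k := l) (Subtype.ext ?_)
      have := congrArg Subtype.val hl
      exact this) (fun t ht => by
        obtain ⟨u, hu, v, hv, e⟩ := mem_sup_iff.1 (hS.ge (mem_top (⟨t, ht⟩ : T)))
        exact ⟨u, hu, v, ⟨v, hv, rfl⟩, congrArg Subtype.val e⟩) le_rfl
    obtain ⟨χ, -, h2⟩ := exists_deg_of_ext K ν hν1 T hT m hm (irrOne T).2
      fun x _ => (mem_charKer_irr _).2 rfl
    rw [charDegree_irrOne, mul_one] at h2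
    have h3 : T.index = p ^ e := h2 ▸ hpp χ k (h2 ▸ hk ▸ index_dvd_of_le hKT)
      (h2 ▸ mt index_eq_one.1 hT1)
    obtain ⟨θ₀, ρ, h4, -, h5⟩ := RG.exists_decomp hq θ.2 (by
      exact fun h => hqp ((Nat.prime_dvd_prime_iff_eq hq hp.out).1
        (hq.dvd_of_dvd_pow (h.trans hθ.dvd))))
    have hψ := RG.isIrr_tw h4.1 ν
    have h6 : charDegree (RG.tw θ₀ ν) = p ^ i := by
      rw [RG.charDegree_tw, ← RG.charDegree_tw θ₀ ρ, ← h5]
      exact hθ
    obtain ⟨d, hd⟩ := RG.exists_lies hψ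
    have h7 := hd.dvd hψ
    obtain ⟨f, h8, h9⟩ := hd.exists_eq hψ
    obtain ⟨ξ, -, rfl⟩ := hd
    have h10 : 1 < p ^ i := Nat.one_lt_pow hi hp.out.one_lt
    rw [h6] at h7 h8
    rw [hpp ξ (k + i) (by rw [h8, pow_add, ← hk]; exact mul_dvd_mul_right h9 _) (by
      rw [h8]; exact fun h => h10.ne' (Nat.eq_one_of_mul_eq_one_left h))] at h7
    have h11 := Nat.le_of_dvd (pow_pos hp.out.pos e) ((mul_dvd_mul_right
      (h3 ▸ index_dvd_of_le (RG.inertia_tw_le hq h4 hν')) _).trans h7)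
    exact absurd h11 (not_le.2 (lt_mul_of_one_lt_right (pow_pos hp.out.pos e) h10))
  intro x hx
  have hxK : x ∈ K := commutator_le_left _ _ hx
  rw [← map_subtype_commutator]
  exact ⟨⟨x, hxK⟩, mem_commutator_of_forall_hom fun ν => (hI.ge (mem_top ν)) _ hx, rfl⟩

end A2

end Cfsg.Agent.Deg4
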