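import Mathlib
import Cfsg.Agent.Deg4.Frob

/-! Garrison: a solvable group with at most four character degrees has derived length at most
four. -/

set_option autoImplicit false
set_option linter.unusedSectionVars false
set_option linter.style.haveILetI false

open Cfsg Cfsg.Agent.Char Subgroup
open scoped commutatorElement

namespace Cfsg.Agent.Deg4

universe u

section
variable {G : Type*} [Group G]

/-- derived series of a subgroup, inside the ambient group -/
def dS (N : Subgroup G) : ℕ → Subgroup G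
  | 0 => N
  | k + 1 => ⁅dS N k, dS N k⁆

theorem dS_mono {M N : Subgroup G} (h : M ≤ N) : ∀ k, dS M k ≤ dS N k
  | 0 => h
  | k + 1 => commutator_mono (dS_mono h k) (dS_mono h k)

theorem dS_top : ∀ k, dS (⊤ : Subgroup G) k = derivedSeries G k
  | 0 => rfl
  | k + 1 => by rw [dS, dS_top k, derivedSeries_succ]

theorem dS_eq (N : Subgroup G) : ∀ k, dS N k = (derivedSeries N k).map N.subtype
  | 0 => by rw [derivedSeries_zero, ← MonoidHom.range_eq_map, range_subtype]; rfl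
  | k + 1 => by rw [dS, dS_eq N k, derivedSeries_succ, map_commutator]

theorem dS_add (N : Subgroup G) (j : ℕ) : ∀ k, dS (dS N j) k = dS N (j + k)
  | 0 => rfl
  | k + 1 => by rw [dS, dS_add N j k]; rfl

theorem four_of {N : Subgroup G} (i j : ℕ) (hij : i + j = 4) (h1 : derivedSeries G i ≤ N)
    (h2 : dS N j = ⊥) : derivedSeries G 4 = ⊥ := by
  rw [← dS_top, ← hij, ← dS_add, dS_top, eq_bot_iff, ← h2]
  exact dS_mono h1 j

theorem dS_eq_bot {N : Subgroup G} {k : ℕ} (h : derivedSeries N k = ⊥) : dS N k = ⊥ := by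
  rw [dS_eq, h, Subgroup.map_bot]

theorem dS_comm {N : Subgroup G} {k : ℕ} (h : derivedSeries N (1 + k) = ⊥) : dS ⁅N, N⁆ k = ⊥ :=
  (dS_add N 1 k).trans (dS_eq_bot h)

end

/-- degrees in `{1, a, b, c}` -/
def Cd4 (G : Type*) [Group G] (a b c : ℕ) : Prop := ∀ χ : IrrCharacter G,
  charDegree χ.1 = 1 ∨ charDegree χ.1 = a ∨ charDegree χ.1 = b ∨ charDegree χ.1 = c

section
variable {G : Type u} [Group G] [Finite G] [Group.IsSolvable G] {a b c : ℕ}

theorem Cd4.s12 (h : Cd4 G a b c) : Cd4 G b a c := fun χ => by have := h χ; tauto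
theorem Cd4.s23 (h : Cd4 G a b c) : Cd4 G a c b := fun χ => by have := h χ; tauto
theorem Cd4.s13 (h : Cd4 G a b c) : Cd4 G c b a := fun χ => by have := h χ; tauto

theorem Cd4.quot (h : Cd4 G a b c) (M : Subgroup G) [M.Normal] : Cd4 (G ⧸ M) a b c := fun ψ => by
  rw [← charDegree_inflateIrr _ (QuotientGroup.mk'_surjective M)]
  exact h _

theorem caseBI (h : Cd4 G a b c) {r : ℕ} (hr : r.Prime) (ha : ¬ r ∣ a) (L : Subgroup G) [L.Normal]
    (hL : commutator G ≤ L)
    (hψ : ∀ ψ : IrrCharacter L, charDegree ψ.1 ≠ 1 → r ∣ charDegree ψ.1) :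
    derivedSeries G 4 = ⊥ := by
  refine four_of (N := ⁅L, L⁆) 2 2 rfl (commutator_mono hL hL)
    (relTwo G b c ⁅L, L⁆ fun χ hχ => ?_)
  obtain ⟨θ, ⟨e, he, -⟩, h1, -⟩ := exists_under L χ
  have h2 : r ∣ charDegree χ.1 := he ▸ (hψ θ fun e => hχ (h1.1 e)).mul_left e
  rcases h χ with e | e | e
  · exact (hr.not_dvd_one (e ▸ h2)).elim
  · exact (ha (e ▸ h2)).elim
  · exact e

theorem caseA2 {p e : ℕ} [hp : Fact p.Prime] (hb : ¬ p ∣ b) (hb1 : b ≠ 1) (he : e ≠ 0)
    (h : Cd4 G (p ^ e) b (p ^ e * b)) : derivedSeries G 4 = ⊥ := by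
  classical
  obtain ⟨k, hk⟩ := Transfer.index_pResidual (p := p) (G := G)
  have h2 : ∀ j, ¬ b ∣ p ^ j := fun j h => hb1 (Nat.eq_one_of_dvd_coprimes
    ((hp.out.coprime_iff_not_dvd.2 hb).pow_left j) h dvd_rfl)
  by_cases h0 : ∀ χ : IrrCharacter G, ¬ ⁅pResidual p G, pResidual p G⁆ ≤ charKer χ.1 →
      charDegree χ.1 ≠ p ^ e
  · refine four_of (N := ⁅pResidual p G, pResidual p G⁆) 2 2 rfl
      (commutator_le_of_rel_one (n := p ^ e) _ (commutator G) fun χ h3 h4 => ?_)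
      (relTwo G b (p ^ e * b) ⁅pResidual p G, pResidual p G⁆ fun χ hχ =>
        ((h χ).resolve_left fun e => hχ
        ((commutator_mono le_top le_top).trans
          ((commutator_le_charKer_iff χ).2 e))).resolve_left (h0 χ hχ))
    obtain ⟨θ, ⟨f, hf, hfd⟩, h5, -⟩ := exists_under (pResidual p G) χ
    rw [h5.2 h3, mul_one] at hf
    rw [← hf, hk] at hfd
    rcases h χ with e | e | e | e
    · exact (h4 ((commutator_le_charKer_iff χ).2 e)).elim
    · exact e
    · exact (h2 k (e ▸ hfd)).elim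
    · exact (h2 k ((dvd_mul_left _ _).trans (e ▸ hfd))).elim
  push Not at h0
  obtain ⟨χ, h3, h4⟩ := h0
  obtain ⟨θ, ⟨f, hf, -⟩, h5, -⟩ := exists_under (pResidual p G) χ
  obtain ⟨i, -, hi⟩ := (Nat.dvd_prime_pow hp.out).1 (h4 ▸ hf ▸ dvd_mul_left _ _ :
    charDegree θ.1 ∣ p ^ e)
  have hi0 : i ≠ 0 := fun e => h3 (h5.1 (by rw [hi, e, pow_zero]))
  have hinv := lin_inv hb h hb1 hi0 ⟨θ, hi⟩
  obtain ⟨M, ⟨hMn, hM⟩, hmax⟩ := (wellFounded_gt (α := Subgroup G)).has_min
    {M | M.Normal ∧ p ∣ M.relIndex (pResidual p G)} ⟨⊥, inferInstance, by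
      rw [relIndex_bot_left]
      exact ((dvd_pow_self p hi0).trans hi.symm.dvd).trans (charDegree_irr_dvd_card θ)⟩
  have hs := QuotientGroup.mk'_surjective M
  have hK := Transfer.map_pResidual_of_surjective (p := p) _ hs
  have hc : p ∣ Nat.card (pResidual p (G ⧸ M)) := by
    have := relIndex_ker (K := pResidual p G) (QuotientGroup.mk' M)
    rw [QuotientGroup.ker_mk', hK] at this
    exact this ▸ hM
  have hq : ∀ A : Subgroup (G ⧸ M), A.Normal → A ≠ ⊥ → ¬ p ∣ A.relIndex (pResidual p (G ⧸ M)) := by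
    intro A _ hA hd
    have hle : M ≤ A.comap (QuotientGroup.mk' M) := fun x hx => by
      rw [mem_comap, QuotientGroup.mk'_apply, (QuotientGroup.eq_one_iff x).2 hx]
      exact A.one_mem
    refine hmax (A.comap (QuotientGroup.mk' M)) ⟨inferInstance, by rwa [relIndex_comap, hK]⟩
      (lt_of_le_of_ne hle fun e => hA ?_)
    rw [← map_comap_eq_self_of_surjective hs A, ← e, QuotientGroup.map_mk'_self]
  obtain ⟨r, E, hr, hEn, hE0, hEK, hEc, -, hEr, hmin⟩ := Grp.exists_minNormal_elementaryAbelian_le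
    (pResidual p (G ⧸ M)) fun e => hp.out.not_dvd_one (by rwa [e, card_bot] at hc)
  haveI := Fact.mk hr
  obtain ⟨j, hj⟩ := hEr.exists_card_eq
  have hcard : ∀ {X : Type u} [Group X] {A B : Subgroup X}, A ≤ B →
      Nat.card A * A.relIndex B = Nat.card B := fun {X} _ A B hAB => by
    rw [← Nat.card_congr (subgroupOfEquivOfLe hAB).toEquiv, relIndex, card_mul_index]
  obtain rfl : p = r := (Nat.prime_dvd_prime_iff_eq hp.out hr).1 (hp.out.dvd_of_dvd_pow
    (hj ▸ ((Nat.Prime.dvd_mul hp.out).1 (hcard hEK ▸ hc)).resolve_right (hq E hEn hE0)))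
  have hU : ∀ A : Subgroup (G ⧸ M), A.Normal → A ≠ ⊥ → E ≤ A := by
    intro A _ hA
    refine inf_eq_left.1 ((hmin (E ⊓ A) inferInstance inf_le_left).resolve_left fun e => ?_)
    refine hq A inferInstance hA (Dvd.dvd.trans ?_ (Dvd.intro _ (relIndex_mul_relIndex
      (A ⊓ pResidual p (G ⧸ M)) (E ⊔ A ⊓ pResidual p (G ⧸ M)) _ le_sup_right
        (sup_le hEK inf_le_right) |>.trans (inf_relIndex_right _ _))))
    rw [relIndex_sup_right, ← inf_relIndex_right, inf_comm, ← inf_assoc, e, bot_inf_eq,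
      relIndex_bot_left, hj]
    exact dvd_pow_self p fun e => hE0 (card_eq_one.1 (by rw [hj, e, pow_zero]))
  have hEc' : ∀ x ∈ E, ∀ y ∈ E, x * y = y * x := fun x hx y hy =>
    congrArg Subtype.val (hEc.is_comm.comm (⟨x, hx⟩ : E) ⟨y, hy⟩)
  obtain ⟨h6, h7, h8⟩ := core hb (h.quot M) (by
    have := map_mono (f := QuotientGroup.mk' M) hinv
    rwa [map_commutator, map_commutator, hK, map_top_of_surjective _ hs] at this)
    E hE0 hEr hEc' hEK (hq E hEn hE0) hU
  obtain ⟨L, _, h9, h10, ⟨ξ, h11⟩, h12, h13⟩ := frob_data M h8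
    (fun A hA hA0 => h6.trans (hU A hA hA0)) (fun x hx y hy => hEc' x (h6 hx) y (h6 hy)) h7 hp.out
    ((hEr.to_le h6).card_eq_or_dvd.resolve_left fun e => by
      obtain ⟨x, y, hxy⟩ := h8
      have : ⁅x, y⁆ ∈ commutator (G ⧸ M) := commutator_mem_commutator (mem_top _) (mem_top _)
      rw [card_eq_one.1 e, mem_bot] at this
      exact hxy (commutatorElement_eq_one_iff_mul_comm.1 this))
  have h14 : p ∣ p ^ e := dvd_pow_self p he
  have h15 : L.index = b := by
    rcases h ξ with e | e | e | e <;> rw [h11] at e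
    · exact (h10 e).elim
    · exact (h12 (e ▸ h14)).elim
    · exact e
    · exact (h12 (e ▸ h14.mul_right b)).elim
  refine caseBI h.s12 hp.out hb L h9 fun ψ hψ => (h13 ψ).elim ?_ id
  rintro ⟨η, hη⟩
  rw [h15] at hη
  rcases h η with e | e | e | e <;> rw [hη] at e
  · exact (hb1 (Nat.eq_one_of_mul_eq_one_right e)).elim
  · exact ((Nat.Prime.dvd_mul hp.out).1 (e ▸ h14)).resolve_left hb
  · exact (hψ (Nat.eq_of_mul_eq_mul_left (Nat.pos_of_ne_zero fun h0 : b = 0 => hb (h0 ▸ dvd_zero p))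
      (e.trans (mul_one b).symm))).elim
  · exact ((Nat.Prime.dvd_mul hp.out).1 (e ▸ h14.mul_right b)).resolve_left hb

section Common

variable {p k : ℕ} [hp : Fact p.Prime] {M : Subgroup G} [M.Normal] (hM : ¬ p ∣ Nat.card M)
  (hk : M.index = p ^ k) (h : Cd4 G a b c)
include hM hk h

theorem cd_compl : Cd4 M (ordCompl[p] a) (ordCompl[p] b) (ordCompl[p] c) := fun θ => by
  obtain ⟨χ, i, hi⟩ := exists_degree_over _ hp.out hk θ
  have h5 := Nat.ordCompl_pow_mul_of_not_dvd i hp.out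
    fun h => hM (h.trans (charDegree_irr_dvd_card θ))
  rw [← hi] at h5
  rw [← h5]
  rcases h χ with e | e | e | e <;> simp [e]

omit hM h in
theorem pow_of_le (χ : IrrCharacter G) (h1 : ⁅M, M⁆ ≤ charKer χ.1) :
    ∃ j, charDegree χ.1 = p ^ j := by
  obtain ⟨θ, ⟨f, hf, hfd⟩, h5, -⟩ := exists_under M χ
  rw [h5.2 h1, mul_one] at hf
  obtain ⟨j, -, hj⟩ := (Nat.dvd_prime_pow hp.out).1 (hk ▸ hfd)
  exact ⟨j, hf.trans hj⟩

omit hM hk h [Finite G] [Group.IsSolvable G] in
theorem oc {x : ℕ} (hx : ∃ j, x = p ^ j) : ordCompl[p] x = 1 := by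
  obtain ⟨j, rfl⟩ := hx
  have := Nat.ordCompl_pow_mul_of_not_dvd j hp.out hp.out.not_dvd_one
  rwa [mul_one] at this

theorem com1 (ha : ∃ j, a = p ^ j) (hb : ¬ ∃ j, b = p ^ j) (hc : ¬ ∃ j, c = p ^ j) :
    derivedSeries G 4 = ⊥ := by
  refine four_of (N := ⁅M, M⁆) 2 2 rfl
    (commutator_le_of_rel_one (n := a) _ (commutator G) fun χ h3 h4 => ?_)
    (dS_comm (derivedSeries_three_eq_bot M (ordCompl[p] b) (ordCompl[p] c) fun θ => ?_))
  · have := pow_of_le hk χ h3
    rcases h χ with e | e | e | e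
    · exact (h4 ((commutator_le_charKer_iff χ).2 e)).elim
    · exact e
    · exact (hb (e ▸ this)).elim
    · exact (hc (e ▸ this)).elim
  · have := cd_compl hM hk h θ
    rw [oc ha] at this
    tauto

theorem com2 (ha : ∃ j, a = p ^ j) (hb : ∃ j, b = p ^ j) (hc : ¬ ∃ j, c = p ^ j) :
    derivedSeries G 4 = ⊥ := by
  have hs := QuotientGroup.mk'_surjective ⁅M, M⁆
  refine four_of (N := ⁅M, M⁆) 3 1 rfl ?_ (dS_comm (comm_eq_bot_of_comm
    (comm_of_rel_one (n := ordCompl[p] c) (commutator M) fun θ hθ => ?_)))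
  · rw [← QuotientGroup.ker_mk' ⁅M, M⁆, ← Subgroup.map_eq_bot_iff, eq_bot_iff,
      ← derivedSeries_three_eq_bot (G ⧸ ⁅M, M⁆) a b fun ψ => ?_]
    · exact map_derivedSeries_le_derivedSeries _ 3
    have := pow_of_le hk (inflateIrr _ hs ψ) (by
      rw [le_charKer_inflateIrr, QuotientGroup.map_mk'_self]; exact bot_le)
    have h1 := h (inflateIrr _ hs ψ)
    rw [charDegree_inflateIrr] at this h1
    rcases h1 with e | e | e | e
    · exact Or.inl e
    · exact Or.inr (Or.inl e)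
    · exact Or.inr (Or.inr e)
    · exact (hc (e ▸ this)).elim
  · have := cd_compl hM hk h θ
    have h1 := mt (commutator_le_charKer_iff θ).2 hθ
    rw [oc ha, oc hb] at this
    tauto

theorem com3 (ha : ∃ j, a = p ^ j) (hb : ∃ j, b = p ^ j) (hc : ∃ j, c = p ^ j)
    (h1 : ∀ k, p ^ k ∣ a → p ^ k ∣ b) (h2 : ∀ k, p ^ k ∣ a → p ^ k ∣ c) :
    derivedSeries G 4 = ⊥ := by
  have h3 : ∀ x ∈ M, ∀ y ∈ M, x * y = y * x := by
    intro x hx y hy
    have : ⁅(⟨x, hx⟩ : M), (⟨y, hy⟩ : M)⁆ = 1 := eq_one_of_forall_irr fun θ =>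
      (mem_charKer_irr θ).1 ((commutator_le_charKer_iff θ).2 (by
        have := cd_compl hM hk h θ
        rw [oc ha, oc hb, oc hc] at this
        tauto) (commutator_mem_commutator (mem_top _) (mem_top _)))
    exact congrArg Subtype.val (commutatorElement_eq_one_iff_mul_comm.1 this)
  refine four_of (N := ⁅commutator G, commutator G⁆) 2 2 rfl le_rfl
    (relTwo G b c ⁅commutator G, commutator G⁆ fun χ hχ =>
    ((h χ).resolve_left fun e => hχ ((commutator_le_left _ _).trans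
      ((commutator_le_charKer_iff χ).2 e))).resolve_left fun e => hχ ?_)
  refine commutator_le_charKer_of_min _ M h3 ((IsPGroup.of_card (G := G ⧸ M) hk).to_subgroup _) χ
    fun ψ hψ j hj => ?_
  rw [e] at hj
  rcases h ψ with e | e | e | e
  · exact (hψ ((commutator_le_charKer_iff ψ).2 e)).elim
  · exact e ▸ hj
  · exact e ▸ h1 j hj
  · exact e ▸ h2 j hj

theorem com (h4 : derivedSeries M 4 = ⊥) : derivedSeries G 4 = ⊥ := by
  by_cases ha : ∃ j, a = p ^ j <;> by_cases hb : ∃ j, b = p ^ j <;> by_cases hc : ∃ j, c = p ^ j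
  · rcases pow_dvd_total hp.out a b with h1 | h1 <;> rcases pow_dvd_total hp.out a c with h2 | h2
    · exact com3 hM hk h ha hb hc h1 h2
    · exact com3 hM hk h.s13 hc hb ha (fun j hj => h1 j (h2 j hj)) h2
    · exact com3 hM hk h.s12 hb ha hc h1 fun j hj => h2 j (h1 j hj)
    · rcases pow_dvd_total hp.out b c with h3 | h3
      · exact com3 hM hk h.s12 hb ha hc h1 h3
      · exact com3 hM hk h.s13 hc hb ha h3 h2
  · exact com2 hM hk h ha hb hc
  · exact com2 hM hk h.s23 ha hc hb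
  · exact com1 hM hk h ha hb hc
  · exact com2 hM hk h.s13 hc hb ha
  · exact com1 hM hk h.s12 hb ha hc
  · exact com1 hM hk h.s13 hc hb ha
  refine four_of (N := ⁅M, M⁆) 1 3 rfl
    (commutator_le_of_rel_one (n := 1) _ ⊤ fun χ h3 _ => ?_) (dS_comm h4)
  have := pow_of_le hk χ h3
  rcases h χ with e | e | e | e
  · exact e
  · exact (ha (e ▸ this)).elim
  · exact (hb (e ▸ this)).elim
  · exact (hc (e ▸ this)).elim

end Common

theorem caseB (h : Cd4 G a b c)
    (hcom : ∀ p, p.Prime → p ∣ a → p ∣ b → p ∣ c → derivedSeries G 4 = ⊥) {r : ℕ} (hr : r.Prime)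
    (L : Subgroup G) [L.Normal] (hL : commutator G ≤ L) (hi : L.index = a) (ha1 : a ≠ 1)
    (ha : ¬ r ∣ a)
    (h1 : ∀ ψ : IrrCharacter L, L.index * charDegree ψ.1 ∈ cdSet G ∨ r ∣ charDegree ψ.1) :
    derivedSeries G 4 = ⊥ := by
  by_cases h0 : ∀ ψ : IrrCharacter L, charDegree ψ.1 ≠ 1 → r ∣ charDegree ψ.1
  · exact caseBI h hr ha L hL h0
  have ha0 : 0 < a := hi ▸ Nat.pos_of_ne_zero index_ne_zero_of_finite
  have h2 : ∀ ψ : IrrCharacter L, ¬ r ∣ charDegree ψ.1 → charDegree ψ.1 = 1 ∨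
      a * charDegree ψ.1 = b ∨ a * charDegree ψ.1 = c := by
    intro ψ hψ
    obtain ⟨η, hη⟩ := (h1 ψ).resolve_right hψ
    rw [hi] at hη
    rcases h η with e | e | e <;> rw [hη] at e
    · exact (ha1 (Nat.eq_one_of_mul_eq_one_right e)).elim
    · exact Or.inl (Nat.eq_of_mul_eq_mul_left ha0 (e.trans (mul_one a).symm))
    · exact Or.inr e
  push Not at h0
  obtain ⟨ψ0, h3, h4⟩ := h0
  wlog hb : a * charDegree ψ0.1 = b generalizing b c
  · exact this h.s23 (fun p hp h1 h2 h3 => hcom p hp h1 h3 h2)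
      (fun ψ hψ => (h2 ψ hψ).imp_right Or.symm) (((h2 ψ0 h4).resolve_left h3).resolve_left hb)
  have hrb : ¬ r ∣ b := fun h5 => ((Nat.Prime.dvd_mul hr).1 (hb ▸ h5)).elim ha h4
  have h5 : ∀ ψ : IrrCharacter L, r ∣ charDegree ψ.1 → ∃ e, c = e * charDegree ψ.1 ∧ e ∣ a := by
    intro ψ hψ
    obtain ⟨χ, ⟨e, he, hed⟩, -⟩ := exists_over L ψ
    have h6 : r ∣ charDegree χ.1 := he ▸ hψ.mul_left e
    refine ⟨e, he ▸ ?_, hi ▸ hed⟩
    rcases h χ with e | e | e | e
    · exact (hr.not_dvd_one (e ▸ h6)).elim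
    · exact (ha (e ▸ h6)).elim
    · exact (hrb (e ▸ h6)).elim
    · exact e.symm
  have h6 : ∀ x y, a * x = y → x = y / a := fun x y e => by
    rw [← e, Nat.mul_div_cancel_left _ ha0]
  by_cases hc : r ∣ c
  · by_cases hac : a.Coprime c
    swap
    · obtain ⟨p, hp, h7, h8⟩ := Nat.Prime.not_coprime_iff_dvd.1 hac
      exact hcom p hp h7 (hb ▸ h7.mul_right _) h8
    refine four_of (N := L) 1 3 rfl hL (dS_eq_bot (derivedSeries_three_eq_bot L (b / a) c
      fun ψ => ?_))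
    by_cases h7 : r ∣ charDegree ψ.1
    · obtain ⟨e, h8, h9⟩ := h5 ψ h7
      rw [Nat.eq_one_of_dvd_coprimes hac h9 (h8 ▸ dvd_mul_right _ _), one_mul] at h8
      exact Or.inr (Or.inr h8.symm)
    · rcases h2 ψ h7 with e | e | e
      · exact Or.inl e
      · exact Or.inr (Or.inl (h6 _ _ e))
      · exact (((Nat.Prime.dvd_mul hr).1 (e ▸ hc)).elim ha h7).elim
  · refine four_of (N := L) 1 3 rfl hL (dS_eq_bot (derivedSeries_three_eq_bot L (b / a) (c / a)
      fun ψ => (h2 ψ fun h7 => ?_).imp_right (Or.imp (h6 _ _) (h6 _ _))))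
    obtain ⟨e, h8, -⟩ := h5 ψ h7
    exact hc (h8 ▸ h7.mul_left e)

end

/-- Garrison's theorem. -/
theorem derivedSeries_four_eq_bot (G : Type u) [Group G] [Finite G] [Group.IsSolvable G] :
    ∀ a b c : ℕ, Cd4 G a b c → derivedSeries G 4 = ⊥ := by
  induction hk : Nat.card G using Nat.strong_induction_on generalizing G with
  | _ k ih =>
  intro a b c h
  by_cases hG : commutator G = ⊥
  · exact four_of (N := ⊥) 1 3 rfl hG.le (by simp [dS])
  have hcom : ∀ p, p.Prime → (∀ χ : IrrCharacter G, charDegree χ.1 ≠ 1 → p ∣ charDegree χ.1) →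
      derivedSeries G 4 = ⊥ := by
    intro p hp h3
    haveI := Fact.mk hp
    obtain ⟨M, _, h4, j, hj⟩ := exists_compl_top h3
    obtain ⟨χ, hχ⟩ : ∃ χ : IrrCharacter G, charDegree χ.1 ≠ 1 := by
      by_contra h
      push Not at h
      exact hG (eq_bot_iff.2 fun x hx => eq_one_of_forall_irr fun χ =>
        (mem_charKer_irr χ).1 ((commutator_le_charKer_iff χ).2 (h χ) hx))
    refine com h4 hj h (ih _ (hk ▸ Grp.card_lt_of_ne_top fun e => h4 ?_) M rfl _ _ _
      (cd_compl h4 hj h))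
    rw [e, card_top]
    exact (h3 χ hχ).trans (charDegree_irr_dvd_card χ)
  have hcom' : ∀ p, p.Prime → p ∣ a → p ∣ b → p ∣ c → derivedSeries G 4 = ⊥ :=
    fun p hp h1 h2 h3 => hcom p hp fun χ hχ => by
      rcases (h χ).resolve_left hχ with e | e | e <;> rwa [e]
  rcases degree_dichotomy (Group.IsSolvable.commutator_lt_of_ne_bot hG).not_ge with
    ⟨p, K, _, hp, hP, hab⟩ | ⟨r, L, _, hr, hL, h1, ⟨ψ, hψ⟩, h3, h4⟩
  · haveI := Fact.mk hp
    obtain ⟨β, hβ⟩ := exists_charDegree_ne_one hab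
    obtain ⟨j, hj⟩ := hP.exists_card_eq
    obtain ⟨e, -, he⟩ := (Nat.dvd_prime_pow hp).1 (hj ▸ charDegree_irr_dvd_card β)
    obtain ⟨ψ, hψ⟩ := cdSet_subset_of_surjective _ (QuotientGroup.mk'_surjective K) ⟨β, rfl⟩
    refine by_contra fun h0 => h0 (hcom p hp fun χ hχ => by_contra fun hd => h0 ?_)
    obtain ⟨ξ, hξ⟩ := exists_mul_degree_of_coprime K β χ (by
      rw [K.index_eq_card, hj]
      exact ((Nat.Prime.coprime_iff_not_dvd hp).2 hd).symm.pow_right _)
    have he0 : e ≠ 0 := fun h => hβ (by rw [he, h, pow_zero])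
    refine caseA2 hd hχ he0 fun η => ?_
    rw [← he]
    have h1 := charDegree_irr_pos β
    have h2 := charDegree_irr_pos χ
    have h3 : charDegree β.1 ≠ charDegree χ.1 := fun e => hd (e ▸ he ▸ dvd_pow_self p he0)
    have h4 : charDegree β.1 < charDegree ξ.1 := hξ ▸ lt_mul_of_one_lt_right h1 (by omega)
    have h5 : charDegree χ.1 < charDegree ξ.1 := hξ ▸ lt_mul_of_one_lt_left h2 (by omega)
    have h6 := h ψ
    have h7 := h χ
    have h8 := h ξ
    have h9 := h η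
    rw [← hξ]
    omega
  · rcases (h ψ).resolve_left (hψ ▸ h1) with e | e | e <;> rw [hψ] at e
    · exact caseB h hcom' hr L hL e (e ▸ h1) (e ▸ h3) h4
    · exact caseB h.s12 (fun p hp h1 h2 h3 => hcom' p hp h2 h1 h3) hr L hL e (e ▸ h1) (e ▸ h3) h4
    · exact caseB h.s13 (fun p hp h1 h2 h3 => hcom' p hp h3 h2 h1) hr L hL e (e ▸ h1) (e ▸ h3) h4

end Cfsg.Agent.Deg4
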